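import Mathlib

/-!
# An element of order three without fixed points on a module in characteristic two

`CfsgLib.ThreeFpf.commute_of_quadratic`: if `g` is a unit of a ring of characteristic two with
`g² + g + 1 = 0`, a soluble group of units of order prime to `6` normalised by `g` is centralised
by `g`.
-/

set_option autoImplicit false
set_option linter.unusedSectionVars false
set_option linter.style.haveILetI false
set_option linter.deprecated false

namespace CfsgLib.ThreeFpf

universe u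

variable {A : Type u} [Ring A]

/-- The commutative part of the computation. -/
theorem poly_eq {R : Type*} [CommRing R] {Y Y' U U' : R} (hY : Y * Y' = 1) (hU : U * U' = 1)
    (hc : U + U' = Y + Y') (hw : U' * Y' + U * Y = Y + Y') :
    (Y - 1) ^ 2 * (Y ^ 3 - 1) = 0 := by
  have h1 : Y * U ^ 2 - (Y ^ 2 + 1) * U + Y = 0 := by
    linear_combination (U * Y) * hc - Y * hU + U * hY
  have h2 : U ^ 2 * Y ^ 2 + 1 - U * (Y ^ 2 + 1) = 0 := by
    linear_combination (U * Y) * hw - (U * U') * hY - hU + U * hY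
  have h3 : (1 - Y) * (U * (Y ^ 2 + 1)) - (1 - Y) * (1 + Y) = 0 := by
    linear_combination Y * h1 - h2
  linear_combination ((1 - Y) * (Y ^ 2 + 1) ^ 2) * h1
    - (Y * U * (Y ^ 2 + 1) + Y * (1 + Y) - (Y ^ 2 + 1) ^ 2) * h3

/-- Commuting units satisfy the conclusion. -/
theorem pow_twelve_eq_one (h2 : (2 : A) = 0) {y u : Aˣ} (hyu : Commute y u)
    (hc : (u : A) + (↑u⁻¹ : A) = (y : A) + (↑y⁻¹ : A))
    (hw : (↑(u⁻¹ * y⁻¹) : A) + (↑(u * y) : A) = (y : A) + (↑y⁻¹ : A)) : y ^ 12 = 1 := by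
  let s : Set A := {(y : A), (↑y⁻¹ : A), (u : A), (↑u⁻¹ : A)}
  have hyu' : Commute (y : A) (u : A) := hyu.map (Units.coeHom A)
  have hcomm : ∀ a ∈ s, ∀ b ∈ s, a * b = b * a := by
    intro a ha b hb
    simp only [s, Set.mem_insert_iff, Set.mem_singleton_iff] at ha hb
    have e1 : Commute (↑y⁻¹ : A) (u : A) := hyu'.units_inv_left
    have e2 : Commute (y : A) (↑u⁻¹ : A) := hyu'.units_inv_right
    have e3 : Commute (↑y⁻¹ : A) (↑u⁻¹ : A) := e1.units_inv_right
    rcases ha with rfl | rfl | rfl | rfl <;> rcases hb with rfl | rfl | rfl | rfl <;>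
      first
        | rfl
        | exact e1.eq | exact e2.eq | exact e3.eq | exact hyu'.eq
        | exact e1.eq.symm | exact e2.eq.symm | exact e3.eq.symm | exact hyu'.eq.symm
        | simp
  let := Subring.closureCommRingOfComm hcomm
  have hm : ∀ a ∈ s, a ∈ Subring.closure s := fun a ha => Subring.subset_closure ha
  set Y : Subring.closure s := ⟨(y : A), hm _ (by simp [s])⟩
  set Y' : Subring.closure s := ⟨(↑y⁻¹ : A), hm _ (by simp [s])⟩
  set U : Subring.closure s := ⟨(u : A), hm _ (by simp [s])⟩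
  set U' : Subring.closure s := ⟨(↑u⁻¹ : A), hm _ (by simp [s])⟩
  have h := poly_eq (Y := Y) (Y' := Y') (U := U) (U' := U') (Subtype.ext y.mul_inv)
    (Subtype.ext u.mul_inv) (Subtype.ext hc)
    (Subtype.ext (by simpa [Units.val_mul] using hw))
  have h2' : (2 : Subring.closure s) = 0 := by
    rw [← one_add_one_eq_two]
    refine Subtype.ext ?_
    show (1 : A) + 1 = 0
    rwa [one_add_one_eq_two]
  have h4 : Y ^ 12 - 1 = 0 := by
    linear_combination ((Y ^ 2 + Y + 1) ^ 2 * (Y ^ 3 - 1)) * h +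
      (2 * Y ^ 9 - 3 * Y ^ 6 + 2 * Y ^ 3 - 1) * h2'
  refine Units.ext ?_
  have := congrArg Subtype.val (sub_eq_zero.1 h4)
  simpa [Y] using this

/-- The step for a commutator which is central. -/
theorem pow_four_eq_one {z u : Aˣ}
    (h1 : ((z : A) - 1) * ((z : A) * ↑(u * u)) = (z : A) - 1)
    (h2 : ((z : A) - 1) * ((z : A) * (↑(z * z) * ↑(u * u))) = (z : A) - 1) :
    ((z : A) - 1) * ((z : A) * ((↑(z * z) : A) - 1)) = 0 := by
  have h : ((z : A) - 1) * ((z : A) * ((↑(z * z) : A) - 1)) * ↑(u * u) = 0 := by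
    rw [mul_assoc, mul_assoc, sub_mul (↑(z * z) : A) 1, one_mul, mul_sub, mul_sub, h1, h2, sub_self]
  exact (u * u).isUnit.mul_left_eq_zero.1 h

variable {g : Aˣ}

theorem inv_eq_of_quadratic (hg : (g : A) * g + g + 1 = 0) : (↑g⁻¹ : A) = -(g : A) - 1 := by
  refine (Units.inv_eq_of_mul_eq_one_right ?_)
  rw [← sub_eq_zero]
  have : (g : A) * (-(g : A) - 1) - 1 = -((g : A) * g + g + 1) := by noncomm_ring
  rw [this, hg, neg_zero]

theorem pow_three_of_quadratic (hg : (g : A) * g + g + 1 = 0) : g * g * g = 1 := by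
  refine Units.ext ?_
  rw [Units.val_mul, Units.val_mul, Units.val_one, ← sub_eq_zero]
  have : (g : A) * g * g - 1 = ((g : A) * g + g + 1) * ((g : A) - 1) := by noncomm_ring
  rw [this, hg, zero_mul]

theorem quadratic_conj (x : Aˣ) (hg : (g : A) * g + g + 1 = 0) :
    (↑(x * g * x⁻¹) : A) * ↑(x * g * x⁻¹) + ↑(x * g * x⁻¹) + 1 = 0 := by
  have : (↑(x * g * x⁻¹) : A) * ↑(x * g * x⁻¹) + ↑(x * g * x⁻¹) + 1 =
      (x : A) * ((g : A) * g + g + 1) * ↑x⁻¹ := by
    simp [mul_assoc, mul_add, add_mul]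
  rw [this, hg, mul_zero, zero_mul]

/-- Two units with the same quadratic equation. -/
theorem commute_trace {h : Aˣ} (hg : (g : A) * g + g + 1 = 0) (hh : (h : A) * h + h + 1 = 0) :
    (g : A) * (↑(g * h⁻¹) + ↑(g * h⁻¹)⁻¹) = (↑(g * h⁻¹) + ↑(g * h⁻¹)⁻¹) * (g : A) := by
  simp only [mul_inv_rev, inv_inv, Units.val_mul, inv_eq_of_quadratic hg, inv_eq_of_quadratic hh]
  rw [← sub_eq_zero]
  have : (g : A) * ((g : A) * (-(h : A) - 1) + (h : A) * (-(g : A) - 1)) -
      ((g : A) * (-(h : A) - 1) + (h : A) * (-(g : A) - 1)) * (g : A) =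
      (h : A) * ((g : A) * g + g + 1) - ((g : A) * g + g + 1) * (h : A) := by noncomm_ring
  rw [this, hg, mul_zero, zero_mul, sub_zero]

theorem eq_one_of_pow {Q : Subgroup Aˣ} [Finite Q] (h2 : ¬ 2 ∣ Nat.card Q) (h3 : ¬ 3 ∣ Nat.card Q)
    {x : Aˣ} (hx : x ∈ Q) {n : ℕ} (hn : n = 4 ∨ n = 12) (h : x ^ n = 1) : x = 1 := by
  have hco : n.Coprime (Nat.card Q) := by
    have e2 : Nat.Coprime 2 (Nat.card Q) := (Nat.prime_two.coprime_iff_not_dvd).2 h2
    have e3 : Nat.Coprime 3 (Nat.card Q) := (Nat.prime_three.coprime_iff_not_dvd).2 h3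
    rcases hn with rfl | rfl
    · exact (Nat.Coprime.mul_left e2 e2 :)
    · exact (Nat.Coprime.mul_left (Nat.Coprime.mul_left e2 e2) e3 :)
  have e : orderOf x ∣ Nat.card Q := Q.orderOf_coe ⟨x, hx⟩ ▸ orderOf_dvd_natCard _
  exact orderOf_eq_one_iff.1 (Nat.eq_one_of_dvd_coprimes hco (orderOf_dvd_of_pow_eq_one h) e)

/-- `g` centralises every soluble group of units of order prime to `6` which it normalises. -/
theorem commute_of_quadratic (h2 : (2 : A) = 0) (g : Aˣ) (hg : (g : A) * g + g + 1 = 0) :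
    ∀ (n : ℕ) (Q : Subgroup Aˣ), Nat.card Q = n → Finite Q → ¬ 2 ∣ n → ¬ 3 ∣ n →
      Group.IsSolvable Q → (∀ x ∈ Q, g * x * g⁻¹ ∈ Q) → ∀ x ∈ Q, g * x = x * g := by
  intro n
  induction n using Nat.strong_induction_on with
  | _ n ih =>
  intro Q hn hfin hn2 hn3 hsol hnorm x hx
  subst hn
  -- proper invariant subgroups are centralised
  have key : ∀ Q' : Subgroup Aˣ, Q' < Q → (∀ x ∈ Q', g * x * g⁻¹ ∈ Q') →
      ∀ x ∈ Q', g * x * g⁻¹ = x := by
    intro Q' hlt hinv z hz
    have hd := Subgroup.card_dvd_of_le hlt.le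
    haveI : Finite Q' := Finite.of_injective (Subgroup.inclusion hlt.le)
      (Subgroup.inclusion_injective _)
    have hcard : Nat.card Q' < Nat.card Q :=
      lt_of_le_of_ne (Nat.le_of_dvd Nat.card_pos hd) fun e =>
        hlt.ne (Subgroup.eq_of_le_of_card_ge hlt.le e.ge)
    have := ih _ hcard Q' rfl inferInstance (fun h => hn2 (h.trans hd)) (fun h => hn3 (h.trans hd))
      (by
        haveI := hsol
        exact Group.isSolvable_of_isSolvable_injective (f := Subgroup.inclusion hlt.le)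
          (Subgroup.inclusion_injective _)) hinv z hz
    rw [this, mul_inv_cancel_right]
  obtain ⟨y, hy⟩ : ∃ y, y = g * x * g⁻¹ * x⁻¹ := ⟨_, rfl⟩
  have hyQ : y ∈ Q := hy ▸ mul_mem (hnorm x hx) (Q.inv_mem hx)
  have hyh : y = g * (x * g * x⁻¹)⁻¹ := by rw [hy]; group
  obtain ⟨u, hu⟩ : ∃ u, u = g * y * g⁻¹ := ⟨_, rfl⟩
  have huQ : u ∈ Q := hu ▸ hnorm y hyQ
  -- the relations
  have hcg := commute_trace hg (quadratic_conj x hg)
  rw [← hyh] at hcg
  have hc : (u : A) + ↑u⁻¹ = (y : A) + ↑y⁻¹ := by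
    have : (u : A) + ↑u⁻¹ = (g : A) * ((y : A) + ↑y⁻¹) * ↑g⁻¹ := by
      simp [hu, mul_assoc, mul_add, add_mul]
    rw [this, hcg, mul_assoc, Units.mul_inv, mul_one]
  have hw : (↑(u⁻¹ * y⁻¹) : A) + ↑((u⁻¹ * y⁻¹)⁻¹) = (y : A) + ↑y⁻¹ := by
    have h3 := pow_three_of_quadratic (quadratic_conj x hg)
    have h3g := pow_three_of_quadratic hg
    have hwu : y⁻¹ * u⁻¹ = g * u * g⁻¹ := by
      have e1 : x * g * x⁻¹ = y⁻¹ * g := by rw [hyh]; group
      rw [e1] at h3
      have e2 : g * g = g⁻¹ := eq_inv_of_mul_eq_one_left h3g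
      rw [hu]
      have e3 : y⁻¹ * (g * y * g⁻¹)⁻¹ * (g * g * y⁻¹ * g) = 1 := by
        rw [← h3]; group
      rw [eq_inv_of_mul_eq_one_left e3, e2]
      rw [mul_inv_rev, mul_inv_rev, inv_inv, inv_inv]
      conv_rhs => rw [show g * (g * y * g⁻¹) * g⁻¹ = (g * g) * y * (g * g)⁻¹ by group, e2, inv_inv]
      group
    have e4 : (↑(y⁻¹ * u⁻¹) : A) + ↑(y⁻¹ * u⁻¹)⁻¹ = (y : A) + ↑y⁻¹ := by
      rw [hwu]
      have : (↑(g * u * g⁻¹) : A) + ↑(g * u * g⁻¹)⁻¹ = (g : A) * ((u : A) + ↑u⁻¹) * ↑g⁻¹ := by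
        simp [mul_assoc, mul_add, add_mul]
      rw [this, hc, hcg, mul_assoc, Units.mul_inv, mul_one]
    have e5 : (↑(u⁻¹ * y⁻¹) : A) + ↑(u⁻¹ * y⁻¹)⁻¹ =
        (y : A) * ((↑(y⁻¹ * u⁻¹) : A) + ↑(y⁻¹ * u⁻¹)⁻¹) * ↑y⁻¹ := by
      simp [mul_assoc, mul_add, add_mul]
    rw [e5, e4, mul_add, add_mul]
    simp
  -- commutativity
  have hcomm : Commute y u := by
    let Q1 := Subgroup.closure {t : Aˣ | ∃ r ∈ Q, t = g * r * g⁻¹ * r⁻¹}
    have hQ1 : Q1 ≤ Q := (Subgroup.closure_le Q).2 fun t ⟨r, hr, ht⟩ =>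
      ht ▸ mul_mem (hnorm r hr) (Q.inv_mem hr)
    have hy1 : y ∈ Q1 := Subgroup.subset_closure ⟨x, hx, hy⟩
    rcases eq_or_lt_of_le hQ1 with heq | hlt
    swap
    · have hinv : ∀ t ∈ Q1, g * t * g⁻¹ ∈ Q1 := by
        intro t ht
        have hmap : Q1.map (MulAut.conj g).toMonoidHom ≤ Q1 := by
          rw [MonoidHom.map_closure, Subgroup.closure_le]
          rintro _ ⟨_, ⟨r, hr, rfl⟩, rfl⟩
          exact Subgroup.subset_closure ⟨g * r * g⁻¹, hnorm r hr, by simp [mul_assoc]⟩
        exact hmap ⟨t, ht, rfl⟩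
      show y * u = u * y
      rw [hu, key Q1 hlt hinv y hy1]
    · haveI := hsol
      by_cases hQ : Q = ⊥
      · have : y = 1 := Subgroup.mem_bot.1 (hQ ▸ hyQ)
        simp [this]
      haveI : Nontrivial Q := Q.nontrivial_iff_ne_bot.2 hQ
      let D : Subgroup Aˣ := (commutator Q).map Q.subtype
      have hDlt : D < Q := by
        refine lt_of_le_of_ne (Subgroup.map_subtype_le _) fun e => ?_
        have := Group.IsSolvable.commutator_lt_top_of_nontrivial Q
        refine this.ne (Subgroup.map_injective Q.subtype_injective ?_)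
        rw [← MonoidHom.range_eq_map, Subgroup.range_subtype]
        exact e
      have hDeq : D = ⁅Q, Q⁆ := by
        simp only [D, commutator_def, Subgroup.map_commutator, ← MonoidHom.range_eq_map,
          Subgroup.range_subtype]
      have hDinv : ∀ t ∈ D, g * t * g⁻¹ ∈ D := by
        intro t ht
        have hmap : Q.map (MulAut.conj g).toMonoidHom ≤ Q := by
          rintro _ ⟨q, hq, rfl⟩
          exact hnorm q hq
        rw [hDeq] at ht ⊢
        have := Subgroup.mem_map_of_mem (MulAut.conj g).toMonoidHom ht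
        rw [Subgroup.map_commutator] at this
        exact Subgroup.commutator_mono hmap hmap this
      have hfix := key D hDlt hDinv
      obtain ⟨z, hz⟩ : ∃ z, z = y * u * y⁻¹ * u⁻¹ := ⟨_, rfl⟩
      have hzD : z ∈ D := by
        rw [hDeq, hz]
        exact Subgroup.commutator_mem_commutator hyQ huQ
      have hzc : Q ≤ Subgroup.centralizer {z} := by
        rw [← heq, Subgroup.closure_le]
        rintro _ ⟨r, hr, rfl⟩
        rw [SetLike.mem_coe, Subgroup.mem_centralizer_singleton_iff]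
        have hzQ : z ∈ Q := hDlt.le hzD
        have hrz : r⁻¹ * z * r ∈ D := by
          have hmap : Q.map (MulAut.conj r⁻¹).toMonoidHom ≤ Q := by
            rintro _ ⟨q, hq, rfl⟩
            exact mul_mem (mul_mem (Q.inv_mem hr) hq) (Q.inv_mem (Q.inv_mem hr))
          have hh := Subgroup.mem_map_of_mem (MulAut.conj r⁻¹).toMonoidHom (hDeq ▸ hzD)
          rw [Subgroup.map_commutator] at hh
          rw [hDeq]
          simpa [mul_assoc] using Subgroup.commutator_mono hmap hmap hh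
        have e1 := hfix z hzD
        have e2 := hfix _ hrz
        have e3 : (g * r * g⁻¹)⁻¹ * z * (g * r * g⁻¹) = r⁻¹ * z * r := by
          conv_lhs => arg 1; arg 2; rw [← e1]
          rw [← e2]; group
        calc g * r * g⁻¹ * r⁻¹ * z
            = g * r * g⁻¹ * (r⁻¹ * z * r) * r⁻¹ := by group
          _ = g * r * g⁻¹ * ((g * r * g⁻¹)⁻¹ * z * (g * r * g⁻¹)) * r⁻¹ := by rw [e3]
          _ = z * (g * r * g⁻¹ * r⁻¹) := by group
      have hzy : z * y = y * z := (Subgroup.mem_centralizer_singleton_iff.1 (hzc hyQ)).symm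
      have hzu : z * u = u * z := (Subgroup.mem_centralizer_singleton_iff.1 (hzc huQ)).symm
      have e1 : (z : A) * u + ↑(z * u)⁻¹ = (u : A) + ↑u⁻¹ := by
        have e : (z : A) * u = (y : A) * u * ↑y⁻¹ := by
          rw [← Units.val_mul, ← Units.val_mul, ← Units.val_mul]
          congr 1
          rw [hz]; group
        have e' : z * u = y * u * y⁻¹ := by rw [hz]; group
        rw [e, e', show (y * u * y⁻¹)⁻¹ = y * u⁻¹ * y⁻¹ by group, Units.val_mul, Units.val_mul,
          ← add_mul, ← mul_add, hc, mul_add, add_mul]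
        simp
      have hzu' : Commute (z : A) (u : A) := by
        show (z : A) * u = u * z
        rw [← Units.val_mul, hzu, Units.val_mul]
      have f1 : ((z : A) - 1) * ((z : A) * ↑(u * u)) = (z : A) - 1 := by
        have h := congrArg (fun t : A => t * ((z : A) * u)) e1
        simp only [add_mul] at h
        rw [← Units.val_mul z u, Units.inv_mul, Units.val_mul z u] at h
        have h' : (↑u⁻¹ : A) * ((z : A) * u) = z := by
          rw [hzu'.eq, ← mul_assoc, Units.inv_mul, one_mul]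
        rw [h', mul_assoc (z : A) (u : A), ← mul_assoc (u : A) (z : A), ← hzu'.eq,
          mul_assoc (z : A) (u : A) (u : A)] at h
        rw [Units.val_mul, sub_mul, one_mul]
        calc (z : A) * ((z : A) * ((u : A) * u)) - (z : A) * ((u : A) * u)
            = ((z : A) * ((z : A) * ((u : A) * u)) + 1) - (z : A) * ((u : A) * u) - 1 := by abel
          _ = (z : A) - 1 := by rw [h]; abel
      have hzy' : y * z * y⁻¹ = z := by rw [← hzy, mul_inv_cancel_right]
      have f2 : ((z : A) - 1) * ((z : A) * (↑(z * z) * ↑(u * u))) = (z : A) - 1 := by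
        have h := congrArg (fun t : A => (y : A) * t * ↑y⁻¹) f1
        have e' : y * (u * u) * y⁻¹ = z * z * (u * u) := by
          have e0 : y * u * y⁻¹ = z * u := by rw [hz]; group
          calc y * (u * u) * y⁻¹ = (y * u * y⁻¹) * (y * u * y⁻¹) := by group
            _ = z * (u * z) * u := by rw [e0]; group
            _ = z * z * (u * u) := by rw [← hzu]; group
        have e'' : (y : A) * (z : A) * ↑y⁻¹ = z := by
          rw [← Units.val_mul, ← Units.val_mul, hzy']
        have hR : (y : A) * ((z : A) - 1) * ↑y⁻¹ = (z : A) - 1 := by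
          rw [mul_sub, sub_mul, e'', mul_one, Units.mul_inv]
        have hL : (y : A) * (((z : A) - 1) * ((z : A) * ↑(u * u))) * ↑y⁻¹ =
            ((z : A) - 1) * ((z : A) * (↑(z * z) * ↑(u * u))) := by
          calc (y : A) * (((z : A) - 1) * ((z : A) * ↑(u * u))) * ↑y⁻¹
              = ((y : A) * ((z : A) - 1) * ↑y⁻¹) * (((y : A) * (z : A) * ↑y⁻¹) *
                  ((y : A) * ↑(u * u) * ↑y⁻¹)) := by simp [mul_assoc]
            _ = _ := by
              rw [hR, e'', ← Units.val_mul y, ← Units.val_mul (y * (u * u)), e', Units.val_mul]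
        exact hL.symm.trans (h.trans hR)
      have f3 := pow_four_eq_one f1 f2
      have hz4 : z ^ 4 = 1 := by
        refine Units.ext ?_
        rw [Units.val_pow_eq_pow_val, Units.val_one, ← sub_eq_zero]
        have f4 : (z : A) * (((z : A) - 1) * ((z : A) * z - 1)) = 0 := by
          rw [← f3, Units.val_mul]; noncomm_ring
        have f5 := z.isUnit.mul_right_eq_zero.1 f4
        have : (z : A) ^ 4 - 1 = ((z : A) - 1) * ((z : A) * z - 1) * ((z : A) + 1) +
            (2 : A) * ((z : A) * z - 1) := by noncomm_ring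
        rw [this, h2, f5, zero_mul, zero_mul, add_zero]
      have := eq_one_of_pow hn2 hn3 (hDlt.le hzD) (Or.inl rfl) hz4
      rw [hz, mul_inv_eq_one, mul_inv_eq_iff_eq_mul] at this
      exact this
  have hy12 : y ^ 12 = 1 := pow_twelve_eq_one h2 hcomm hc (by
    rwa [mul_inv_rev, inv_inv, inv_inv, hcomm.eq] at hw)
  have := eq_one_of_pow hn2 hn3 hyQ (Or.inr rfl) hy12
  rw [hy, mul_inv_eq_one, mul_inv_eq_iff_eq_mul] at this
  exact this

end CfsgLib.ThreeFpf
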