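import Mathlib
import Cfsg.Agent.ThreeFpf.Algebra
import Cfsg.Agent.FixedTwist.Basic
import Cfsg.Agent.FixedTwist.Count
import Cfsg.Agent.Coprime.Action
import Cfsg.Agent.PLocal.Constraint
import Cfsg.Agent.Solvable.Fitting
import Cfsg.Agent.Solvable.Frattini
import Cfsg.Agent.SolvSig.Core

/-!
# Soluble `3'`-groups with an automorphism of order three fixing only elements of odd order

Such a group has `2`-length one and the automorphism is trivial modulo `O_{2',2}`.
-/

set_option autoImplicit false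
set_option linter.unusedSectionVars false
set_option linter.style.haveILetI false
set_option linter.unusedVariables false

open scoped commutatorElement

namespace CfsgLib.ThreeFpf

open Cfsg Subgroup
open CfsgLib.FixedTwist (Inv quotAut restrict exists_fixed_coset)

universe u

variable {G : Type u} [Group G] [Finite G]

/-- The hypothesis of this file. -/
structure Hyp (G : Type u) [Group G] (σ : MulAut G) : Prop where
  not_dvd : ¬ 3 ∣ Nat.card G
  pow_eq : σ ^ 3 = 1
  odd_fix : ∀ x, σ x = x → Odd (orderOf x)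

variable {σ : MulAut G}

theorem Hyp.apply_three (h : Hyp G σ) (x : G) : σ (σ (σ x)) = x :=
  show (σ ^ 3) x = x by rw [h.pow_eq]; rfl

theorem Hyp.eq_one_of_twist (h : Hyp G σ) {x : G} (ht : σ (x⁻¹ * σ x) = x⁻¹ * σ x) :
    σ x = x := by
  have e : ∀ t, σ x = x * t → σ t = t → t = 1 := by
    intro t hxt hft
    have h3 := h.apply_three x
    rw [hxt, map_mul, hxt, hft, map_mul, map_mul, hxt, hft, mul_assoc, mul_assoc] at h3
    have ht3 : t ^ 3 = 1 := by
      rw [pow_three]
      simpa using h3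
    have hd : orderOf t ∣ Nat.card G := orderOf_dvd_natCard t
    rcases (Nat.dvd_prime Nat.prime_three).1 (orderOf_dvd_of_pow_eq_one ht3) with h1 | h1
    · exact orderOf_eq_one_iff.1 h1
    · exact absurd (h1 ▸ hd) h.not_dvd
  have := e (x⁻¹ * σ x) (by group) ht
  rw [inv_mul_eq_one] at this
  exact this.symm

theorem Hyp.not_two_dvd (h : Hyp G σ) (hall : ∀ x, σ x = x) : ¬ 2 ∣ Nat.card G := fun hd => by
  obtain ⟨x, hx⟩ := exists_prime_orderOf_dvd_card' 2 hd
  have := h.odd_fix x (hall x)
  rw [hx] at this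
  exact absurd this (by decide)

theorem Hyp.restrict (h : Hyp G σ) {L : Subgroup G} (hL : Inv σ L) :
    Hyp L (CfsgLib.FixedTwist.restrict σ L hL) where
  not_dvd hd := h.not_dvd (hd.trans (card_subgroup_dvd_card L))
  pow_eq := CfsgLib.FixedTwist.restrict_pow_eq_one hL h.pow_eq
  odd_fix x hx := by
    rw [← Subgroup.orderOf_coe]
    exact h.odd_fix x (congrArg Subtype.val hx)

theorem Hyp.quot (h : Hyp G σ) {N : Subgroup G} [N.Normal] (hN : Inv σ N) :
    Hyp (G ⧸ N) (quotAut σ N hN) where
  not_dvd hd := h.not_dvd (hd.trans (card_quotient_dvd_card N))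
  pow_eq := CfsgLib.FixedTwist.quotAut_pow_eq_one hN h.pow_eq
  odd_fix q hq := by
    haveI : Fact (Nat.Prime 3) := ⟨Nat.prime_three⟩
    induction q using QuotientGroup.induction_on with
    | H x =>
      have hx : x⁻¹ * σ x ∈ N := (QuotientGroup.eq).1 (show (x : G ⧸ N) = (σ x : G) from hq.symm)
      obtain ⟨c, hc, hcN⟩ := exists_fixed_coset h.pow_eq h.not_dvd hN hx
      rw [(QuotientGroup.eq).2 hcN]
      exact (h.odd_fix c hc).of_dvd_nat (orderOf_map_dvd (QuotientGroup.mk' N) c)

theorem inv_of_characteristic (σ : MulAut G) (N : Subgroup G) [N.Characteristic] : Inv σ N :=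
  fun x hx => by
    have := Subgroup.characteristic_iff_map_le.1 (inferInstance : N.Characteristic) σ
    exact this ⟨x, hx, rfl⟩

/-- Automorphisms of a commutative group as units of its endomorphism ring. -/
def autUnits (V : Type u) [CommGroup V] : MulAut V →* (AddMonoid.End (Additive V))ˣ :=
  MonoidHom.toHomUnits
    { toFun := fun f => (MonoidHom.toAdditive f.toMonoidHom : Additive V →+ Additive V)
      map_one' := rfl
      map_mul' := fun _ _ => rfl }

theorem autUnits_injective (V : Type u) [CommGroup V] : Function.Injective (autUnits V) :=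
  fun f f' he => MulEquiv.ext fun v => congrArg Additive.toMul
    (DFunLike.congr_fun (congrArg Units.val he) (Additive.ofMul v))

theorem quadratic_autUnits {V : Type u} [CommGroup V] (g : MulAut V) (hg : g ^ 3 = 1)
    (hfix : ∀ v, g v = v → v = 1) :
    ((autUnits V g : (AddMonoid.End (Additive V))ˣ) : AddMonoid.End (Additive V)) *
      (autUnits V g : (AddMonoid.End (Additive V))ˣ) + (autUnits V g : (AddMonoid.End (Additive V))ˣ)
        + 1 = 0 := by
  refine AddMonoidHom.ext fun a => ?_
  refine Additive.toMul.injective ?_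
  show g (g a.toMul) * g a.toMul * a.toMul = 1
  apply hfix
  have h3 : g (g (g a.toMul)) = a.toMul := show (g ^ 3) a.toMul = a.toMul by rw [hg]; rfl
  rw [map_mul, map_mul, h3]
  ac_rfl

theorem two_eq_zero {V : Type u} [CommGroup V] (h : ∀ v : V, v * v = 1) :
    (2 : AddMonoid.End (Additive V)) = 0 := by
  rw [← one_add_one_eq_two]
  exact AddMonoidHom.ext fun a => Additive.toMul.injective (h a.toMul)

open scoped IsMulCommutative in
theorem core_case [Group.IsSolvable G] (h : Hyp G σ) (hO : pPrimeCore 2 G = ⊥) :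
    ¬ 2 ∣ (pCore 2 G).index ∧ ∀ x, x⁻¹ * σ x ∈ pCore 2 G := by
  classical
  haveI : Fact (Nat.Prime 3) := ⟨Nat.prime_three⟩
  set R := pCore 2 G with hR
  haveI : R.Characteristic := PLocal.pCoreCharacteristic ..
  have hRp : IsPGroup 2 R := PLocal.isPGroup_pCore 2 G
  have hCR : centralizer (R : Set G) ≤ R :=
    PLocal.centralizer_pCore_le PLocal.isPSolvable_of_isSolvable hO
  let K : Subgroup G := (frattini R).map R.subtype
  haveI hKn : K.Normal := PLocal.normal_map_subtype R (frattini R)
  have hKinv : Inv σ K := by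
    rintro _ ⟨r, hr, rfl⟩
    exact ⟨_, inv_of_characteristic (restrict σ R (inv_of_characteristic σ R)) (frattini R) r hr,
      rfl⟩
  let π := QuotientGroup.mk' K
  let V : Subgroup (G ⧸ K) := R.map π
  haveI : V.Normal := Subgroup.Normal.map inferInstance π (QuotientGroup.mk'_surjective K)
  have hsq : ∀ r ∈ R, r * r ∈ K := fun r hr =>
    ⟨(⟨r, hr⟩ : R) ^ 2, Solvable.pow_mem_frattini hRp _, by simp [pow_two]⟩
  have hcomm : ∀ r ∈ R, ∀ s ∈ R, r * s * r⁻¹ * s⁻¹ ∈ K := fun r hr s hs =>
    ⟨⁅(⟨r, hr⟩ : R), ⟨s, hs⟩⁆, Solvable.commutator_le_frattini hRp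
      (Subgroup.commutator_mem_commutator (Subgroup.mem_top _) (Subgroup.mem_top _)),
      by simp [commutatorElement_def]⟩
  haveI : IsMulCommutative V := ⟨⟨by
    rintro ⟨_, r, hr, rfl⟩ ⟨_, s, hs, rfl⟩
    refine Subtype.ext ?_
    show π r * π s = π s * π r
    have e : π (r * s * r⁻¹ * s⁻¹) = 1 := (QuotientGroup.eq_one_iff _).2 (hcomm r hr s hs)
    simp only [map_mul, map_inv] at e
    rwa [mul_inv_eq_one, mul_inv_eq_iff_eq_mul] at e⟩⟩
  have hexp : ∀ v : V, v * v = 1 := by
    rintro ⟨_, r, hr, rfl⟩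
    refine Subtype.ext ?_
    show π r * π r = 1
    rw [← map_mul]
    exact (QuotientGroup.eq_one_iff _).2 (hsq r hr)
  let φ : G →* (AddMonoid.End (Additive V))ˣ :=
    (autUnits V).comp ((MulAut.conjNormal (H := V)).comp π)
  have hker : ∀ x, φ x = 1 ↔ ∀ r ∈ R, x * r * x⁻¹ * r⁻¹ ∈ K := by
    intro x
    constructor
    · intro hx r hr
      have e : MulAut.conjNormal (π x) = (1 : MulAut V) :=
        autUnits_injective V (hx.trans (map_one _).symm)
      have e' := congrArg Subtype.val (DFunLike.congr_fun e ⟨π r, mem_map_of_mem π hr⟩)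
      rw [MulAut.conjNormal_apply, MulAut.one_apply] at e'
      refine (QuotientGroup.eq_one_iff _).1 ?_
      show π (x * r * x⁻¹ * r⁻¹) = 1
      simp only [map_mul, map_inv]
      rw [mul_inv_eq_one]
      exact e'
    · intro hx
      have e : MulAut.conjNormal (π x) = (1 : MulAut V) := by
        refine MulEquiv.ext ?_
        rintro ⟨_, r, hr, rfl⟩
        refine Subtype.ext ?_
        rw [MulAut.conjNormal_apply, MulAut.one_apply]
        have e := (QuotientGroup.eq_one_iff _).2 (hx r hr)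
        change π (x * r * x⁻¹ * r⁻¹) = 1 at e
        simp only [map_mul, map_inv] at e
        rwa [mul_inv_eq_one] at e
      show autUnits V (MulAut.conjNormal (π x)) = 1
      rw [e, map_one]
  have hRker : R ≤ φ.ker := fun x hx => (hker x).2 (hcomm x hx)
  have hkerR : φ.ker ≤ R := by
    refine PLocal.le_pCore ?_
    refine IsPGroup.of_card (n := (Nat.card φ.ker).primeFactorsList.length)
      (Nat.eq_prime_pow_of_unique_prime_dvd Nat.card_pos.ne' fun {q} hq hqd => ?_)
    by_contra hq2
    haveI := Fact.mk hq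
    obtain ⟨x, hx⟩ := exists_prime_orderOf_dvd_card' q hqd
    have hxo : orderOf (x : G) = q := by rwa [Subgroup.orderOf_coe]
    have hle : zpowers (x : G) ≤ centralizer (R : Set G) := by
      refine Coprime.le_centralizer_of_commutator_le_frattini
        (le_normalizer_of_normal) ?_ ?_
      · rw [Nat.card_zpowers, hxo]
        refine Nat.Coprime.coprime_dvd_right (card_subgroup_dvd_card _) ?_
        obtain ⟨k, hk⟩ := IsPGroup.iff_card.1 hRp
        rw [hk]
        exact Nat.Coprime.pow_right k ((Nat.coprime_primes hq Nat.prime_two).2 hq2)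
      · rw [Subgroup.commutator_le]
        intro r hr t ht
        have ht' : φ t = 1 := (zpowers_le.2 x.2 : zpowers (x : G) ≤ φ.ker) ht
        have e : ⁅r, t⁆ = (t * r * t⁻¹ * r⁻¹)⁻¹ := by rw [commutatorElement_def]; group
        rw [e]
        exact K.inv_mem ((hker t).1 ht' r hr)
    have h1 : (x : G) ∈ R := hCR (hle (mem_zpowers _))
    obtain ⟨k, hk⟩ := IsPGroup.iff_orderOf.1 hRp ⟨(x : G), h1⟩
    rw [← Subgroup.orderOf_coe, hxo] at hk
    rcases Nat.eq_zero_or_pos k with h0 | h0
    · rw [h0, pow_zero] at hk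
      exact hq.one_lt.ne' hk
    · exact hq2 ((Nat.prime_dvd_prime_iff_eq hq Nat.prime_two).1
        (hq.dvd_of_dvd_pow (dvd_of_eq hk)))
  -- the automorphism on `V`
  have hVinv : Inv (quotAut σ K hKinv) V := by
    rintro _ ⟨r, hr, rfl⟩
    exact ⟨σ r, inv_of_characteristic σ R r hr, rfl⟩
  have hV := (h.quot hKinv).restrict hVinv
  let g : MulAut V := restrict (quotAut σ K hKinv) V hVinv
  have hg := quadratic_autUnits g hV.pow_eq fun v hv => by
    have hodd := hV.odd_fix v hv
    have h2 : orderOf v ∣ 2 := orderOf_dvd_of_pow_eq_one (by rw [pow_two]; exact hexp v)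
    rcases (Nat.dvd_prime Nat.prime_two).1 h2 with h1 | h1
    · exact orderOf_eq_one_iff.1 h1
    · rw [h1] at hodd
      exact absurd hodd (by decide)
  have hcompat : ∀ x, autUnits V g * φ x * (autUnits V g)⁻¹ = φ (σ x) := by
    intro x
    rw [mul_inv_eq_iff_eq_mul]
    show autUnits V g * autUnits V (MulAut.conjNormal (π x)) =
      autUnits V (MulAut.conjNormal (π (σ x))) * autUnits V g
    rw [← map_mul, ← map_mul]
    refine congrArg _ (MulEquiv.ext fun v => Subtype.ext ?_)
    show quotAut σ K hKinv (π x * (v : G ⧸ K) * (π x)⁻¹) =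
      π (σ x) * quotAut σ K hKinv (v : G ⧸ K) * (π (σ x))⁻¹
    rw [map_mul, map_mul, map_inv]
    rfl
  -- `σ` is trivial on the odd core of `G / R`
  let M : Subgroup G := (pPrimeCore 2 (G ⧸ R)).comap (QuotientGroup.mk' R)
  let Q := M.map φ
  have hQdvd : Nat.card Q ∣ Nat.card (pPrimeCore 2 (G ⧸ R)) := by
    have e : Nat.card Q = φ.ker.relIndex M := (Subgroup.relIndex_ker (K := M) φ).symm
    have e' : Nat.card (pPrimeCore 2 (G ⧸ R)) = R.relIndex M := by
      have := Subgroup.relIndex_ker (K := M) (QuotientGroup.mk' R)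
      rw [QuotientGroup.ker_mk', map_comap_eq_self_of_surjective
        (QuotientGroup.mk'_surjective R)] at this
      exact this.symm
    rw [e, e', le_antisymm hkerR hRker]
  have hMinv : Inv σ M := fun x hx => by
    have := inv_of_characteristic (quotAut σ R (inv_of_characteristic σ R)) (pPrimeCore 2 (G ⧸ R))
      _ hx
    exact this
  haveI : Group.IsSolvable M := inferInstance
  have hcentQ := commute_of_quadratic (two_eq_zero hexp) _ hg (Nat.card Q) Q rfl
    (Set.Finite.to_subtype ((Set.toFinite (M : Set G)).image φ))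
    (fun hd => PLocal.not_dvd_iff_coprime.1 (PLocal.coprime_card_pPrimeCore 2 (G ⧸ R))
      (hd.trans hQdvd))
    (fun hd => h.not_dvd (hd.trans ((hQdvd.trans (card_subgroup_dvd_card _)).trans
      (card_quotient_dvd_card R))))
    (Group.isSolvable_of_surjective (f := φ.subgroupMap M) (φ.subgroupMap_surjective M))
    (by
      rintro _ ⟨x, hx, rfl⟩
      exact ⟨σ x, hMinv x hx, (hcompat x).symm⟩)
  -- hence on all of `G / R`
  let σ' := quotAut σ R (inv_of_characteristic σ R)
  have hX := h.quot (inv_of_characteristic σ R)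
  have hfixO : ∀ q ∈ pPrimeCore 2 (G ⧸ R), σ' q = q := by
    intro q hq
    induction q using QuotientGroup.induction_on with
    | H x =>
      have e := hcentQ (φ x) (mem_map_of_mem φ (show x ∈ M from hq))
      have e1 : φ (σ x) = φ x := by rw [← hcompat x, e, mul_inv_cancel_right]
      refine (QuotientGroup.eq.2 (hkerR ?_)).symm
      show x⁻¹ * σ x ∈ φ.ker
      rw [MonoidHom.mem_ker, map_mul, map_inv, e1, inv_mul_cancel]
  have hF : fittingSubgroup (G ⧸ R) ≤ pPrimeCore 2 (G ⧸ R) := by
    rw [Solvable.fittingSubgroup_eq_iSup]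
    refine iSup_le fun p => ?_
    have hp : (p : ℕ).Prime := p.2
    haveI := Fact.mk hp
    by_cases h2 : (p : ℕ) = 2
    · rw [h2, PLocal.pCore_quotient_pCore_eq_bot]
      exact bot_le
    · haveI := Solvable.pCore_normal (G := G ⧸ R) (p : ℕ)
      refine PLocal.le_pPrimeCore ?_
      obtain ⟨k, hk⟩ := IsPGroup.iff_card.1 (PLocal.isPGroup_pCore (p : ℕ) (G ⧸ R))
      rw [hk]
      exact Nat.Coprime.pow_left k ((Nat.coprime_primes hp Nat.prime_two).2 h2)
  have hall : ∀ q, σ' q = q := by
    intro q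
    refine hX.eq_one_of_twist (hfixO _ (hF (Solvable.centralizer_fittingSubgroup_le ?_)))
    refine mem_centralizer_iff.2 fun f hf => ?_
    haveI := Solvable.fittingSubgroup_normal (G := G ⧸ R)
    have h1 := hfixO _ (hF hf)
    have h2 := hfixO _ (hF ((inferInstance : (fittingSubgroup (G ⧸ R)).Normal).conj_mem f hf q))
    rw [map_mul, map_mul, h1, map_inv] at h2
    calc f * (q⁻¹ * σ' q) = q⁻¹ * (q * f * q⁻¹) * σ' q := by group
      _ = q⁻¹ * (σ' q * f * (σ' q)⁻¹) * σ' q := by rw [h2]
      _ = q⁻¹ * σ' q * f := by group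
  exact ⟨by rw [Subgroup.index]; exact hX.not_two_dvd hall,
    fun x => QuotientGroup.eq.1 (hall x).symm⟩

/-- A soluble group has `2`-length one and `σ` is trivial modulo `O_{2',2}`. -/
theorem solvable_case [Group.IsSolvable G] (h : Hyp G σ) :
    ¬ 2 ∣ (pPrimePCore 2 G).index ∧ ∀ x, x⁻¹ * σ x ∈ pPrimePCore 2 G := by
  haveI : (pPrimeCore 2 G).Characteristic := PLocal.pPrimeCoreCharacteristic ..
  obtain ⟨h1, h2⟩ := core_case (h.quot (inv_of_characteristic σ (pPrimeCore 2 G)))
    (PLocal.pPrimeCore_quotient_pPrimeCore_eq_bot 2 G)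
  refine ⟨?_, fun x => h2 (x : G ⧸ pPrimeCore 2 G)⟩
  rwa [pPrimePCore, index_comap_of_surjective _ (QuotientGroup.mk'_surjective _)]

/-- In a soluble group with a Sylow `2`-subgroup `P`: `G = O(G) N(P)` and the twists lie in
`O(G) P`. -/
theorem solvable_sylow [Group.IsSolvable G] (h : Hyp G σ) (P : Sylow 2 G) :
    (∀ x, ∃ o ∈ pPrimeCore 2 G, ∃ n ∈ normalizer ((P : Subgroup G) : Set G), x = o * n) ∧
    ∀ x, ∃ o ∈ pPrimeCore 2 G, ∃ s ∈ (P : Subgroup G), x⁻¹ * σ x = o * s := by
  obtain ⟨hidx, htw⟩ := solvable_case h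
  set T := pPrimePCore 2 G
  haveI : T.Normal := (inferInstance : (pCore 2 (G ⧸ pPrimeCore 2 G)).Normal).comap _
  have hPT : (P : Subgroup G) ≤ T := by
    have hd1 : Nat.card ((P : Subgroup G).map (QuotientGroup.mk' T)) ∣ T.index :=
      card_subgroup_dvd_card _
    obtain ⟨k, hk⟩ := IsPGroup.iff_card.1 (P.2.map (QuotientGroup.mk' T))
    rw [hk] at hd1
    rcases Nat.eq_zero_or_pos k with h0 | h0
    · rw [h0, pow_zero] at hk
      have := (Subgroup.eq_bot_of_card_eq _ hk)
      rwa [Subgroup.map_eq_bot_iff, QuotientGroup.ker_mk'] at this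
    · exact absurd ((dvd_pow_self 2 h0.ne').trans hd1) hidx
  have hTle : ∀ t ∈ T, ∃ o ∈ pPrimeCore 2 G, ∃ s ∈ (P : Subgroup G), t = o * s := by
    intro t ht
    have hle := PLocal.pCore_le_sylow
      (P.mapSurjective (QuotientGroup.mk'_surjective (pPrimeCore 2 G)))
    rw [Sylow.coe_mapSurjective] at hle
    obtain ⟨s, hs, hse⟩ := hle ht
    refine ⟨t * s⁻¹, ?_, s, hs, by group⟩
    refine (QuotientGroup.eq_one_iff _).1 ?_
    show QuotientGroup.mk' (pPrimeCore 2 G) (t * s⁻¹) = 1
    rw [map_mul, map_inv, hse, mul_inv_cancel]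
  refine ⟨fun x => ?_, fun x => hTle _ (htw x)⟩
  have htop : normalizer ((P : Subgroup G) : Set G) ⊔ T = ⊤ := Sylow.normalizer_sup_eq_top' P hPT
  have hx : x ∈ T ⊔ normalizer ((P : Subgroup G) : Set G) := by
    rw [sup_comm, htop]; exact Subgroup.mem_top x
  rw [← SetLike.mem_coe, Subgroup.normal_mul] at hx
  obtain ⟨t, ht, n, hn, rfl⟩ := hx
  obtain ⟨o, ho, s, hs, rfl⟩ := hTle t ht
  exact ⟨o, ho, s * n, mul_mem (le_normalizer hs) hn, mul_assoc o s n⟩

end CfsgLib.ThreeFpf
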