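import Mathlib
import Cfsg.Agent.ThreeFpf.Split
import Cfsg.Agent.NoOffender.Main
import Cfsg.Agent.ZStar.Theorem
import Cfsg.Agent.SolvSig.Theorem
import Cfsg.Agent.Coprime.ActionHom
import Cfsg.Agent.S1279
import Cfsg.Agent.S0205

/-!
# `3'`-groups with an automorphism of order three fixing only elements of odd order are soluble

Minimal counterexample: the normaliser of an invariant Sylow `2`-subgroup controls fusion, every
centraliser of a central involution is soluble by the Z*-theorem, the signalizer functor theorem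
gives a proper subgroup containing all of them, and two non-conjugate central involutions always
commute with a third, so that subgroup contains a whole normal set.
-/

set_option autoImplicit false
set_option linter.unusedSectionVars false
set_option linter.style.haveILetI false
set_option linter.unusedVariables false

namespace CfsgLib.ThreeFpf

open Cfsg Subgroup
open CfsgLib.ConjFunctor (Fus)
open CfsgLib.FixedTwist (Inv quotAut restrict exists_fixed_coset)
open CfsgLib.SolvSig (core')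

universe u

variable {G : Type u} [Group G] [Finite G] {σ : MulAut G}

/-- A minimal counterexample. -/
structure Min (G : Type u) [Group G] (σ : MulAut G) : Prop where
  hyp : Hyp G σ
  not_solv : ¬ Group.IsSolvable G
  proper : ∀ L : Subgroup G, L ≠ ⊤ → Inv σ L → Group.IsSolvable L
  simple : ∀ N : Subgroup G, N.Normal → Inv σ N → N = ⊥ ∨ N = ⊤

theorem inv_normalizer {X : Subgroup G} (hX : Inv σ X) :
    Inv σ (normalizer (X : Set G)) := by
  have hmap : X.map (σ : G ≃* G).toMonoidHom = X := by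
    refine eq_of_le_of_card_ge (by rintro _ ⟨x, hx, rfl⟩; exact hX x hx)
      (card_map_of_injective (f := (σ : G ≃* G).toMonoidHom) σ.injective).ge
  intro g hg
  have := (map_equiv_normalizer_eq X σ).le (mem_map_of_mem (σ : G ≃* G).toMonoidHom hg)
  rwa [hmap] at this

theorem inv_centralizer {s : Set G} (hs : ∀ x ∈ s, ∃ y ∈ s, σ y = x) :
    Inv σ (centralizer s) := by
  intro g hg
  rw [mem_centralizer_iff] at hg ⊢
  intro x hx
  obtain ⟨y, hy, rfl⟩ := hs x hx
  rw [← map_mul, ← map_mul, hg y hy]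

theorem map_core'_equiv (e : G ≃* G) (p : ℕ) (K : Subgroup G) :
    (core' p K).map e.toMonoidHom = core' p (K.map e.toMonoidHom) := by
  unfold CfsgLib.SolvSig.core'
  rw [← PLocal.map_pPrimeCore_equiv (K.equivMapOfInjective e.toMonoidHom e.injective), map_map,
    map_map]
  congr 1

theorem map_centralizer_singleton (e : G ≃* G) (a : G) :
    (centralizer ({a} : Set G)).map e.toMonoidHom = centralizer ({e a} : Set G) := by
  ext x
  constructor
  · rintro ⟨y, hy, rfl⟩
    rw [mem_centralizer_singleton_iff]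
    show e y * e a = e a * e y
    rw [← map_mul, ← map_mul, mem_centralizer_singleton_iff.1 hy]
  · intro hx
    refine ⟨e.symm x, ?_, e.apply_symm_apply x⟩
    refine mem_centralizer_singleton_iff.2 (e.injective ?_)
    rw [map_mul, map_mul, e.apply_symm_apply, mem_centralizer_singleton_iff.1 hx]

/-- The involutions of the centre of a subgroup, with the identity. -/
def omegaCenter (S : Subgroup G) : Subgroup G where
  carrier := {x | x ∈ S ∧ x ∈ centralizer (S : Set G) ∧ x * x = 1}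
  one_mem' := ⟨S.one_mem, one_mem _, mul_one 1⟩
  mul_mem' := fun {x y} hx hy => ⟨S.mul_mem hx.1 hy.1, mul_mem hx.2.1 hy.2.1, by
    rw [mul_assoc, ← mul_assoc y x y, ← mem_centralizer_iff.1 hy.2.1 x hx.1, mul_assoc x y y,
      hy.2.2, mul_one, hx.2.2]⟩
  inv_mem' := fun {x} hx => ⟨S.inv_mem hx.1, inv_mem hx.2.1, by
    rw [← mul_inv_rev, hx.2.2, inv_one]⟩

theorem orderOf_eq_two {x : G} (hxx : x * x = 1) (hx1 : x ≠ 1) : orderOf x = 2 :=
  orderOf_eq_prime (by rwa [pow_two]) hx1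

namespace Min

variable (m : Min G σ)
include m

theorem nontrivial : Nontrivial G := by
  by_contra hn
  rw [not_nontrivial_iff_subsingleton] at hn
  exact m.not_solv inferInstance

theorem two_dvd : 2 ∣ Nat.card G := by
  by_contra hd
  exact m.not_solv (Cfsg.Agent.S0205.result (Nat.odd_iff.2 (Nat.two_dvd_ne_zero.1 hd)))

theorem eq_bot_of_odd {N : Subgroup G} (hN : N.Normal) (hi : Inv σ N) (ho : ¬ 2 ∣ Nat.card N) :
    N = ⊥ := (m.simple N hN hi).resolve_right fun h => ho (by rw [h, card_top]; exact m.two_dvd)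

theorem center_eq_bot : center G = ⊥ :=
  (m.simple _ inferInstance (inv_of_characteristic σ _)).resolve_right fun h => m.not_solv
    (Group.isSolvable_of_comm fun a b => mem_center_iff.1 (h ▸ mem_top b) a)

theorem normalizer_ne_top {X : Subgroup G} (hX : Inv σ X) (hne : X ≠ ⊥) (hp : IsPGroup 2 X) :
    normalizer (X : Set G) ≠ ⊤ := fun h => by
  rcases m.simple X (normalizer_eq_top_iff.1 h) hX with h1 | h1
  · exact hne h1
  · subst h1
    have := hp.isNilpotent
    exact m.not_solv (Group.isSolvable_of_surjective (f := (topEquiv : (⊤ : Subgroup G) ≃* G).toMonoidHom)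
      (MulEquiv.surjective _))

theorem exists_invariant_sylow : ∃ S : Sylow 2 G, Inv σ (S : Subgroup G) := by
  have hcop : (Nat.card (zpowers σ)).Coprime (Nat.card G) := by
    rw [Nat.card_zpowers]
    exact ((Nat.prime_three.coprime_iff_not_dvd).2 m.hyp.not_dvd).coprime_dvd_left
      (orderOf_dvd_of_pow_eq_one m.hyp.pow_eq)
  obtain ⟨P, hP⟩ := Coprime.exists_invariant_sylow_hom (zpowers σ).subtype hcop
    (Or.inl (Group.isSolvable_of_comm fun a b => mul_comm' a b)) 2
  exact ⟨P, fun x hx => hP ⟨σ, mem_zpowers σ⟩ x hx⟩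

variable {S : Sylow 2 G} (hS : Inv σ (S : Subgroup G))
include hS

theorem sylow_ne_bot : (S : Subgroup G) ≠ ⊥ := fun h => by
  have := S.not_dvd_index
  rw [h, index_bot] at this
  exact this m.two_dvd

/-- Proper invariant overgroups of `S`. -/
theorem split {L : Subgroup G} (hL : Inv σ L) (hne : L ≠ ⊤) (hSL : (S : Subgroup G) ≤ L) :
    (∀ x ∈ L, ∃ o ∈ core' 2 L, ∃ n ∈ L ⊓ normalizer ((S : Subgroup G) : Set G), x = o * n) ∧
    ∀ x ∈ L, ∃ o ∈ core' 2 L, ∃ s ∈ (S : Subgroup G), x⁻¹ * σ x = o * s := by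
  haveI := m.proper L hne hL
  obtain ⟨h1, h2⟩ := solvable_sylow (m.hyp.restrict hL) (S.subtype hSL)
  constructor
  · intro x hx
    obtain ⟨o, ho, n, hn, he⟩ := h1 ⟨x, hx⟩
    refine ⟨o, mem_map_of_mem L.subtype ho, n, ⟨n.2, ?_⟩, congrArg Subtype.val he⟩
    refine CfsgLib.ConjFunctor.mem_normalizer_of_forall_conj_mem fun s hs => ?_
    exact (mem_normalizer_iff.1 hn ⟨s, hSL hs⟩).1 hs
  · intro x hx
    obtain ⟨o, ho, s, hs, he⟩ := h2 ⟨x, hx⟩
    exact ⟨o, mem_map_of_mem L.subtype ho, s, hs, congrArg Subtype.val he⟩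

omit hS in
/-- An element of the core of `L ≥ S` moving an element of `S` inside `S` fixes it. -/
theorem core_conj {L : Subgroup G} (hSL : (S : Subgroup G) ≤ L) {o c : G} (ho : o ∈ core' 2 L)
    (hc : c ∈ (S : Subgroup G)) (hoc : o * c * o⁻¹ ∈ (S : Subgroup G)) : o * c * o⁻¹ = c := by
  have h1 : o * c * o⁻¹ * c⁻¹ ∈ core' 2 L ⊓ (S : Subgroup G) := by
    refine ⟨?_, (S : Subgroup G).mul_mem hoc ((S : Subgroup G).inv_mem hc)⟩
    rw [mul_assoc o, mul_assoc o]
    exact mul_mem ho ((mem_normalizer_iff.1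
      (SolvSig.normalizer_le_normalizer_core' 2 L (le_normalizer (hSL hc))) _).1
      ((core' 2 L).inv_mem ho))
  rw [inf_comm, PLocal.disjoint_of_isPGroup_of_coprime S.2 (SolvSig.card_core'_coprime 2 L),
    mem_bot, mul_inv_eq_one] at h1
  exact h1

/-- `N(S)` controls strong fusion in `S`. -/
theorem fusion {A : Set G} (hA : A ⊆ (S : Subgroup G)) {g : G}
    (hg : ∀ a ∈ A, g * a * g⁻¹ ∈ (S : Subgroup G)) :
    ∃ n ∈ normalizer ((S : Subgroup G) : Set G), ∀ a ∈ A, n * a * n⁻¹ = g * a * g⁻¹ := by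
  haveI : Fact (Nat.Prime 2) := ⟨Nat.prime_two⟩
  have hfree : ¬ Involves (Equiv.Perm (Fin 4)) G := by
    rintro ⟨H, K, hK, ⟨e⟩⟩
    refine m.hyp.not_dvd ((Dvd.dvd.trans ?_ (card_quotient_dvd_card (K.subgroupOf H))).trans
      (card_subgroup_dvd_card H))
    rw [Nat.card_congr e.toEquiv, Nat.card_eq_fintype_card, Fintype.card_perm, Fintype.card_fin]
    decide
  have h𝓦 : ∀ W ∈ ConjFunctor.indFam NoOffender.zjFam.{u} G, IsConjugacyFunctor 2 W :=
    ConjFunctor.isConjugacyFunctor_induced_image NoOffender.zjFam_char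
  have hc := ConjFunctor.fusControls_of_family h𝓦 (NoOffender.familyFusion hfree)
    (ConjFunctor.isSylowIn_top S) A g (mem_top g) hA (ConjFunctor.cjSet_subset_iff.2 hg)
  refine (hc.bind (𝓜' := {normalizer ((S : Subgroup G) : Set G)}) le_rfl
    fun M hM z hz B hB hzB => ?_).exists_mem_of_singleton
  obtain ⟨_, ⟨W, hW, rfl⟩, rfl⟩ := hM
  have hWi := ConjFunctor.isConjugacyFunctor_induced (G := G) (NoOffender.zjFam_char W hW)
  set X := inducedFunctor (G := G) W (S : Subgroup G) with hX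
  have hXi : Inv σ X := by
    intro x hx
    have hmap : (S : Subgroup G).map (σ : G ≃* G).toMonoidHom = S :=
      eq_of_le_of_card_ge (by rintro _ ⟨x, hx, rfl⟩; exact hS x hx)
        (card_map_of_injective (f := (σ : G ≃* G).toMonoidHom) σ.injective).ge
    have := ConjFunctor.inducedFunctor_map (NoOffender.zjFam_char W hW)
      (σ : G ≃* G).toMonoidHom S.2 σ.injective.injOn
    rw [hmap, ← hX] at this
    rw [this]
    exact mem_map_of_mem _ hx
  have hne := m.normalizer_ne_top hXi (ConjFunctor.functor_ne_bot hWi S.2 (m.sylow_ne_bot hS))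
    (S.2.to_le (ConjFunctor.functor_le hWi S.2))
  have hSL := ConjFunctor.le_normalizer_functor hWi S.2
  obtain ⟨o, ho, n, hn, rfl⟩ := (m.split hS (inv_normalizer hXi) hne hSL).1 z hz.2
  refine (Fus.single hB (Set.mem_singleton _) hn.2 fun b hb =>
    (mem_normalizer_iff.1 hn.2 b).1 (hB hb)).congr' fun b hb => ?_
  have h1 := hzB b hb
  have e : o * n * b * (o * n)⁻¹ = o * (n * b * n⁻¹) * o⁻¹ := by group
  rw [e] at h1 ⊢
  exact (m.core_conj hSL ho ((mem_normalizer_iff.1 hn.2 b).1 (hB hb)) h1).symm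

local notation "A₀" => omegaCenter (S : Subgroup G)
local notation "N₀" => normalizer (((S : Sylow 2 G) : Subgroup G) : Set G)

theorem inv_omega : Inv σ A₀ := by
  intro x hx
  refine ⟨hS x hx.1, mem_centralizer_iff.2 fun s hs => ?_, by rw [← map_mul, hx.2.2, map_one]⟩
  have hs' : σ (σ s) ∈ (S : Subgroup G) := hS _ (hS s hs)
  have := congrArg σ (mem_centralizer_iff.1 hx.2.1 _ hs')
  rwa [map_mul, map_mul, m.hyp.apply_three] at this

theorem omega_conj {n x : G} (hn : n ∈ N₀) (hx : x ∈ A₀) : n * x * n⁻¹ ∈ A₀ := by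
  refine ⟨(mem_normalizer_iff.1 hn x).1 hx.1, mem_centralizer_iff.2 fun s hs => ?_, ?_⟩
  · have := mem_centralizer_iff.1 hx.2.1 (n⁻¹ * s * n) ((mem_normalizer_iff''.1 hn s).1 hs)
    calc s * (n * x * n⁻¹) = n * ((n⁻¹ * s * n) * x) * n⁻¹ := by group
      _ = n * (x * (n⁻¹ * s * n)) * n⁻¹ := by rw [this]
      _ = n * x * n⁻¹ * s := by group
  · rw [show n * x * n⁻¹ * (n * x * n⁻¹) = n * (x * x) * n⁻¹ by group, hx.2.2, mul_one,
      mul_inv_cancel]

theorem eq_one_of_fixed {x : G} (hx : x ∈ A₀) (hf : σ x = x) : x = 1 := by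
  by_contra h1
  have h := m.hyp.odd_fix x hf
  rw [orderOf_eq_two hx.2.2 h1] at h
  exact absurd h (by decide)

theorem apply_two {x : G} (hx : x ∈ A₀) : σ (σ x) = σ x * x := by
  have hc : ∀ {y z : G}, y ∈ A₀ → z ∈ A₀ → y * z = z * y := fun {y z} hy hz =>
    mem_centralizer_iff.1 hz.2.1 y hy.1
  have hx1 := m.inv_omega hS x hx
  have hx2 := m.inv_omega hS _ hx1
  have hw : σ (σ x) * (σ x * x) = 1 := by
    refine m.eq_one_of_fixed hS (mul_mem hx2 (mul_mem hx1 hx)) ?_
    rw [map_mul, map_mul, m.hyp.apply_three, hc hx (mul_mem hx2 hx1), mul_assoc]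
  have hh : σ (σ x) * σ (σ x) = 1 := hx2.2.2
  exact (mul_left_cancel (hh.trans hw.symm))

theorem exists_involution : ∃ a ∈ A₀, a ≠ 1 := by
  haveI : Fact (Nat.Prime 2) := ⟨Nat.prime_two⟩
  haveI : Nontrivial (S : Subgroup G) :=
    (nontrivial_iff_ne_bot _).2 (m.sylow_ne_bot hS)
  haveI := S.2.center_nontrivial
  obtain ⟨k, hk⟩ := IsPGroup.iff_card.1 (S.2.to_subgroup (center (S : Subgroup G)))
  have hd : 2 ∣ Nat.card (center (S : Subgroup G)) := by
    rcases Nat.eq_zero_or_pos k with h0 | h0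
    · have := Finite.one_lt_card (α := center (S : Subgroup G))
      rw [hk, h0, pow_zero] at this
      exact absurd this (lt_irrefl 1)
    · exact hk ▸ dvd_pow_self 2 h0.ne'
  obtain ⟨z, hz⟩ := exists_prime_orderOf_dvd_card' 2 hd
  have hz2 : orderOf ((z : (S : Subgroup G)) : G) = 2 := by
    rwa [Subgroup.orderOf_coe, Subgroup.orderOf_coe]
  refine ⟨(z : (S : Subgroup G)), ⟨SetLike.coe_mem _, mem_centralizer_iff.2 fun s hs =>
    congrArg Subtype.val (mem_center_iff.1 z.2 ⟨s, hs⟩), ?_⟩, fun h => ?_⟩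
  · have := pow_orderOf_eq_one ((z : (S : Subgroup G)) : G)
    rwa [hz2, pow_two] at this
  · rw [h, orderOf_one] at hz2
    omega

theorem normalizer_sylow_ne_top : N₀ ≠ ⊤ := m.normalizer_ne_top hS (m.sylow_ne_bot hS) S.2

/-- `σ` commutes with the action of `N(S)` on the central involutions. -/
theorem twist {n a : G} (hn : n ∈ N₀) (ha : a ∈ A₀) : σ n * a * (σ n)⁻¹ = n * a * n⁻¹ := by
  obtain ⟨o, ho, s, hs, he⟩ :=
    (m.split hS (inv_normalizer hS) (m.normalizer_sylow_ne_top hS) le_normalizer).2 n hn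
  have e : σ n = n * o * s := by rw [mul_assoc, ← he]; group
  have h1 : s * a * s⁻¹ = a := by
    rw [mem_centralizer_iff.1 ha.2.1 s hs, mul_inv_cancel_right]
  have h2 : o * a * o⁻¹ = a := m.core_conj le_normalizer ho ha.1
    ((mem_normalizer_iff.1 (SolvSig.core'_le 2 _ ho) a).1 ha.1)
  calc σ n * a * (σ n)⁻¹ = n * (o * (s * a * s⁻¹) * o⁻¹) * n⁻¹ := by rw [e]; group
    _ = n * a * n⁻¹ := by rw [h1, h2]

theorem not_conj_apply {a : G} (ha : a ∈ A₀) (ha1 : a ≠ 1) (g : G) : g * a * g⁻¹ ≠ σ a := by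
  intro hg
  have hA : ({a} : Set G) ⊆ (S : Subgroup G) := by
    rintro x rfl; exact ha.1
  obtain ⟨n, hn, hna⟩ := m.fusion hS hA (g := g) (by
    rintro x rfl; rw [hg]; exact hS _ ha.1)
  have h1 : n * a * n⁻¹ = σ a := (hna a rfl).trans hg
  have ha' := m.inv_omega hS a ha
  have h2 : n * σ a * n⁻¹ = σ (σ a) := by
    have := congrArg σ h1
    rw [map_mul, map_mul, map_inv] at this
    rwa [m.twist hS hn ha'] at this
  have h3 : n * σ (σ a) * n⁻¹ = a := by
    have := congrArg σ h2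
    rw [map_mul, map_mul, map_inv, m.twist hS hn (m.inv_omega hS _ ha'), m.hyp.apply_three] at this
    exact this
  have hC : n ^ 3 ∈ centralizer ({a} : Set G) := by
    have : n ^ 3 * a * (n ^ 3)⁻¹ = a := by
      calc n ^ 3 * a * (n ^ 3)⁻¹ = n * (n * (n * a * n⁻¹) * n⁻¹) * n⁻¹ := by
            simp [pow_succ, mul_assoc]
        _ = a := by rw [h1, h2, h3]
    rw [mem_centralizer_singleton_iff]
    exact mul_inv_eq_iff_eq_mul.1 this
  have hn3 : n ∈ zpowers (n ^ 3) := by
    have hco : Nat.Coprime 3 (orderOf n) := (Nat.prime_three.coprime_iff_not_dvd).2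
      fun hd => m.hyp.not_dvd (hd.trans (orderOf_dvd_natCard n))
    obtain ⟨k, hk⟩ := exists_pow_eq_self_of_coprime hco
    exact ⟨k, by simpa using hk⟩
  have h4 := mem_centralizer_singleton_iff.1 ((zpowers_le.2 hC) hn3)
  rw [← mul_inv_eq_iff_eq_mul, h1] at h4
  exact ha1 (m.eq_one_of_fixed hS ha h4)

/-- A central involution fixed by `N(S)` would be isolated. -/
theorem exists_moved {a : G} (ha : a ∈ A₀) (ha1 : a ≠ 1) : ∃ n ∈ N₀, n * a * n⁻¹ ≠ a := by
  by_contra hno
  push Not at hno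
  obtain ⟨N, hN, hodd, hc⟩ := ZStar.exists_oddNormal_of_sylow S (orderOf_eq_two ha.2.2 ha1) ha.1
    (fun g hg => by
      obtain ⟨n, hn, hna⟩ := m.fusion hS (A := {a}) (by rintro x rfl; exact ha.1) (g := g)
        (by rintro x rfl; exact hg)
      rw [← hna a rfl]
      exact hno n hn)
  have hO : pPrimeCore 2 G = ⊥ := by
    haveI : (pPrimeCore 2 G).Characteristic := PLocal.pPrimeCoreCharacteristic ..
    exact m.eq_bot_of_odd inferInstance (inv_of_characteristic σ _)
      (PLocal.not_dvd_iff_coprime.1 (PLocal.coprime_card_pPrimeCore 2 G))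
  haveI := hN
  have hNb : N = ⊥ := le_bot_iff.1 (hO ▸ PLocal.le_pPrimeCore
    (PLocal.not_dvd_iff_coprime.2 hodd.not_two_dvd_nat))
  have : a ∈ center G := mem_center_iff.2 fun g => by
    have h := hc g
    rw [hNb, mem_bot, mul_inv_eq_one, mul_inv_eq_iff_eq_mul] at h
    exact h.symm
  rw [m.center_eq_bot, mem_bot] at this
  exact ha1 this

theorem eight_le_card : 2 ^ 3 ≤ Nat.card A₀ := by
  classical
  haveI : Fact (Nat.Prime 2) := ⟨Nat.prime_two⟩
  obtain ⟨a, ha, ha1⟩ := m.exists_involution hS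
  have hu := m.inv_omega hS a ha
  have hv := m.inv_omega hS _ hu
  have hua : σ a ≠ a := fun h => ha1 (m.eq_one_of_fixed hS ha h)
  have hu1 : σ a ≠ 1 := fun h => ha1 (σ.injective (h.trans (map_one σ).symm))
  have hv1 : σ (σ a) ≠ 1 := fun h => hu1 (σ.injective (h.trans (map_one σ).symm))
  have hvu : σ (σ a) ≠ σ a := fun h => hua (σ.injective h)
  have hva : σ (σ a) ≠ a := fun h => hua (by rw [← congrArg σ h, m.hyp.apply_three])
  obtain ⟨n, hn, hna⟩ := m.exists_moved hS ha ha1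
  have hw := m.omega_conj hS hn ha
  have hw1 : n * a * n⁻¹ ≠ 1 := fun h => ha1 (by rwa [mul_inv_eq_one, mul_eq_left] at h)
  have hwu := m.not_conj_apply hS ha ha1 n
  have hwv : n * a * n⁻¹ ≠ σ (σ a) := fun h => m.not_conj_apply hS hv hv1 n⁻¹ (by
    rw [← h, h, m.hyp.apply_three, ← h]; group)
  have h5 : 5 ≤ Nat.card A₀ := by
    have hsub : ((({1, a, σ a, σ (σ a), n * a * n⁻¹} : Finset G)) : Set G) ⊆ (A₀ : Set G) := by
      intro x hx
      simp only [Finset.coe_insert, Finset.coe_singleton, Set.mem_insert_iff,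
        Set.mem_singleton_iff] at hx
      rcases hx with rfl | rfl | rfl | rfl | rfl
      exacts [one_mem _, ha, hu, hv, hw]
    have h := Nat.card_mono (Set.toFinite _) hsub
    rw [Nat.card_eq_card_finite_toFinset (Finset.finite_toSet _), Finset.finite_toSet_toFinset,
      Finset.card_insert_of_notMem (by simp [ha1.symm, hu1.symm, hv1.symm, hw1.symm]),
      Finset.card_insert_of_notMem (by simp [hua.symm, hva.symm, hna.symm]),
      Finset.card_insert_of_notMem (by simp [hvu.symm, hwu.symm]),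
      Finset.card_insert_of_notMem (by simp [hwv.symm]), Finset.card_singleton] at h
    exact h
  have hle : A₀ ≤ (S : Subgroup G) := fun x hx => hx.1
  obtain ⟨k, hk⟩ := IsPGroup.iff_card.1 (S.2.to_le hle)
  rw [hk] at h5 ⊢
  rcases Nat.lt_or_ge k 3 with h | h
  · have : (2 : ℕ) ^ k ≤ 2 ^ 2 := Nat.pow_le_pow_right (by omega) (by omega)
    omega
  · exact Nat.pow_le_pow_right (by omega) h

theorem sylow_le_centralizer {a : G} (ha : a ∈ A₀) :
    (S : Subgroup G) ≤ centralizer ({a} : Set G) := fun s hs =>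
  mem_centralizer_singleton_iff.2 (mem_centralizer_iff.1 ha.2.1 s hs)

/-- The centraliser of a central involution: soluble, and `O(C) N_C(S)`. -/
theorem centralizer_split {a : G} (ha : a ∈ A₀) (ha1 : a ≠ 1) :
    Group.IsSolvable (centralizer ({a} : Set G)) ∧
    ∀ x ∈ centralizer ({a} : Set G), ∃ o ∈ core' 2 (centralizer ({a} : Set G)),
      ∃ n ∈ centralizer ({a} : Set G) ⊓ N₀, x = o * n := by
  haveI : Fact (Nat.Prime 2) := ⟨Nat.prime_two⟩
  set C := centralizer ({a} : Set G) with hC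
  obtain ⟨u, hu⟩ : ∃ u, u = σ a := ⟨_, rfl⟩
  have hu0 : u ∈ A₀ := hu ▸ m.inv_omega hS a ha
  have hu1 : u ≠ 1 := fun h => ha1 (σ.injective ((hu.symm.trans h).trans (map_one σ).symm))
  have hSC : (S : Subgroup G) ≤ C := m.sylow_le_centralizer hS ha
  have huC : u ∈ C := hSC hu0.1
  obtain ⟨N, hN, hodd, hc⟩ := ZStar.exists_oddNormal_of_sylow (S.subtype hSC)
    (u := (⟨u, huC⟩ : C)) (by rw [← Subgroup.orderOf_coe]; exact orderOf_eq_two hu0.2.2 hu1) hu0.1
    (fun g hg => by
      refine Subtype.ext ?_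
      show (g : G) * u * (g : G)⁻¹ = u
      obtain ⟨n, hn, hna⟩ := m.fusion hS (A := {a, u})
        (by rintro x (rfl | rfl); exacts [ha.1, hu0.1]) (g := (g : G))
        (by
          rintro x (rfl | rfl)
          · rw [mem_centralizer_singleton_iff.1 g.2, mul_inv_cancel_right]; exact ha.1
          · exact hg)
      rw [← hna u (Or.inr rfl)]
      have h1 : n * a * n⁻¹ = a := by
        rw [hna a (Or.inl rfl), mem_centralizer_singleton_iff.1 g.2, mul_inv_cancel_right]
      have h2 := congrArg σ h1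
      rw [map_mul, map_mul, map_inv, ← hu] at h2
      rwa [m.twist hS hn hu0] at h2)
  haveI := hN
  -- `C = N (C ∩ C(u))`
  set U : Subgroup C := centralizer (zpowers (⟨u, huC⟩ : C) : Set C) with hU
  have hdec : ∀ x : C, ∃ c ∈ U, x⁻¹ * c ∈ N := by
    intro x
    refine Coprime.exists_fixed_mem_coset (A := zpowers (⟨u, huC⟩ : C)) le_normalizer_of_normal ?_
      (Or.inl (Group.isSolvable_of_comm fun p q => mul_comm' p q)) ?_
    · rw [Nat.card_zpowers, ← Subgroup.orderOf_coe, orderOf_eq_two hu0.2.2 hu1]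
      exact (Nat.prime_two.coprime_iff_not_dvd).2 hodd.not_two_dvd_nat
    · intro t ht
      have hcu : ∀ y : C, ⟨u, huC⟩ ∈ (centralizer ({QuotientGroup.mk' N y} : Set (C ⧸ N))).comap
          (QuotientGroup.mk' N) := by
        intro y
        rw [mem_comap, mem_centralizer_singleton_iff]
        have h := (QuotientGroup.eq_one_iff _).2 (hc y)
        change QuotientGroup.mk' N (⟨u, huC⟩ * y * ⟨u, huC⟩⁻¹ * y⁻¹) = 1 at h
        rw [map_mul, map_mul, map_mul, map_inv, map_inv, mul_inv_eq_one,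
          mul_inv_eq_iff_eq_mul] at h
        exact h
      have h := mem_centralizer_singleton_iff.1 (mem_comap.1 (zpowers_le.2 (hcu x) ht))
      refine (QuotientGroup.eq_one_iff _).1 ?_
      show QuotientGroup.mk' N (x⁻¹ * (t * x * t⁻¹)) = 1
      rw [map_mul, map_mul, map_mul, map_inv, map_inv, h, mul_inv_cancel_right, inv_mul_cancel]
  -- `C ∩ C(u)` is a proper invariant subgroup
  set L := centralizer ({a, u} : Set G) with hL
  have hLC : L ≤ C := fun x hx => mem_centralizer_singleton_iff.2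
    (mem_centralizer_iff.1 hx a (Or.inl rfl)).symm
  have hLinv : Inv σ L := by
    intro x hx
    rw [hL, mem_centralizer_iff] at hx ⊢
    have h2 := m.apply_two hS ha
    have hxu : σ x * u = u * σ x := by
      rw [hu, ← map_mul, ← map_mul, hx a (Or.inl rfl)]
    have hx2 : σ x * σ u = σ u * σ x := by
      rw [← map_mul, ← map_mul, hx u (Or.inr rfl)]
    rw [hu, h2, ← hu] at hx2
    rintro y (rfl | rfl)
    · refine (mul_left_cancel (a := u) ?_)
      rw [← mul_assoc, ← hx2, ← mul_assoc, hxu, mul_assoc]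
    · exact hxu.symm
  have hLne : L ≠ ⊤ := fun h => by
    have : a ∈ center G := mem_center_iff.2 fun g =>
      (mem_centralizer_iff.1 (h ▸ mem_top g : g ∈ L) a (Or.inl rfl)).symm
    rw [m.center_eq_bot, mem_bot] at this
    exact ha1 this
  have hUL : ∀ c ∈ U, (c : G) ∈ L := by
    intro c hc'
    refine mem_centralizer_iff.2 ?_
    rintro y (rfl | rfl)
    · exact (mem_centralizer_singleton_iff.1 c.2).symm
    · exact congrArg Subtype.val (mem_centralizer_iff.1 hc' _ (mem_zpowers _))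
  have hSL : (S : Subgroup G) ≤ L := fun s hs => mem_centralizer_iff.2 fun y hy => by
    rcases hy with rfl | rfl
    · exact (mem_centralizer_iff.1 ha.2.1 s hs).symm
    · exact (mem_centralizer_iff.1 hu0.2.1 s hs).symm
  haveI hLs : Group.IsSolvable L := m.proper L hLne hLinv
  let f : L →* C ⧸ N := (QuotientGroup.mk' N).comp (inclusion hLC)
  have hf : Function.Surjective f := by
    intro q
    induction q using QuotientGroup.induction_on with
    | H x =>
      obtain ⟨c, hcU, hcN⟩ := hdec x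
      exact ⟨⟨c, hUL c hcU⟩, ((QuotientGroup.eq).2 hcN).symm⟩
  haveI hNs : Group.IsSolvable N := Cfsg.Agent.S0205.result hodd
  haveI : Group.IsSolvable (C ⧸ N) := Group.isSolvable_of_surjective hf
  refine ⟨Group.isSolvable_of_ker_le_range N.subtype (QuotientGroup.mk' N) (by simp), ?_⟩
  have hNle : N ≤ pPrimeCore 2 C :=
    PLocal.le_pPrimeCore (PLocal.not_dvd_iff_coprime.2 hodd.not_two_dvd_nat)
  let f' : L →* C ⧸ pPrimeCore 2 C := (QuotientGroup.mk' (pPrimeCore 2 C)).comp (inclusion hLC)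
  have hf' : Function.Surjective f' := by
    intro q
    induction q using QuotientGroup.induction_on with
    | H x =>
      obtain ⟨c, hcU, hcN⟩ := hdec x
      exact ⟨⟨c, hUL c hcU⟩, ((QuotientGroup.eq).2 (hNle hcN)).symm⟩
  have hcore : core' 2 L ≤ core' 2 C := by
    rintro _ ⟨o, ho, rfl⟩
    have h1 := (PLocal.map_pPrimeCore_le_of_surjective hf') (mem_map_of_mem f' ho)
    rw [PLocal.pPrimeCore_quotient_pPrimeCore_eq_bot, mem_bot] at h1
    exact ⟨inclusion hLC o, (QuotientGroup.eq_one_iff _).1 h1, rfl⟩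
  intro x hx
  obtain ⟨c, hcU, hcN⟩ := hdec ⟨x, hx⟩
  obtain ⟨o, ho, n, hn, he⟩ := (m.split hS hLinv hLne hSL).1 _ (hUL c hcU)
  refine ⟨x * n⁻¹, ?_, n, ⟨hLC hn.1, hn.2⟩, by group⟩
  have h1 : x⁻¹ * (c : G) ∈ core' 2 C := ⟨_, hNle hcN, rfl⟩
  have h2 : (o : G) ∈ core' 2 C := hcore ho
  have h3 : x * n⁻¹ = x * (x⁻¹ * (c : G))⁻¹ * x⁻¹ * o := by
    rw [he]; group
  rw [h3]
  exact mul_mem ((mem_normalizer_iff.1 (SolvSig.normalizer_le_normalizer_core' 2 C (le_normalizer hx)) _).1 (inv_mem h1)) h2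

/-- A proper subgroup containing `N(S)` and all centralisers of central involutions. -/
theorem exists_proper : ∃ M : Subgroup G, M ≠ ⊤ ∧ (S : Subgroup G) ≤ M ∧
    ∀ a ∈ A₀, a ≠ 1 → centralizer ({a} : Set G) ≤ M := by
  haveI : Fact (Nat.Prime 2) := ⟨Nat.prime_two⟩
  have hA : IsElementaryAbelian 2 A₀ :=
    ⟨⟨⟨fun x y => Subtype.ext (mem_centralizer_iff.1 y.2.2.1 x x.2.1)⟩⟩,
      fun a ha => by rw [pow_two]; exact ha.2.2⟩
  have h8 := m.eight_le_card hS
  have hsig := Cfsg.Agent.S1279.result 2 A₀ hA (le_trans (by norm_num) h8)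
    fun a ha ha1 => (m.centralizer_split hS ha ha1).1
  obtain ⟨-, hodd⟩ := SolvSig.isSolvable_signalizerClosure hA h8 hsig
  set θ : G → Subgroup G := fun a => centralizerPPrimeCore 2 a with hθ
  set W := signalizerClosure A₀ θ with hW
  have hle : ∀ a ∈ A₀, a ≠ 1 → θ a ≤ W := fun a ha ha1 => le_iSup_of_le ⟨a, ha, ha1⟩ le_rfl
  have hmapW : ∀ e : G ≃* G, (∀ x ∈ A₀, e x ∈ A₀) → ∀ w ∈ W, e w ∈ W := by
    intro e he w hw
    have : W.map e.toMonoidHom ≤ W := by
      rw [hW, signalizerClosure, Subgroup.map_iSup]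
      refine iSup_le fun a => ?_
      refine le_trans ?_ (hle (e a.1) (he _ a.2.1) fun h => a.2.2
        (e.injective (h.trans (map_one e).symm)))
      show (core' 2 (centralizer ({a.1} : Set G))).map e.toMonoidHom ≤
        core' 2 (centralizer ({e a.1} : Set G))
      rw [map_core'_equiv, map_centralizer_singleton]
    exact this ⟨w, hw, rfl⟩
  have hWinv : Inv σ W := fun w hw => hmapW σ (m.inv_omega hS) w hw
  have hNW : N₀ ≤ normalizer (W : Set G) := fun n hn =>
    ConjFunctor.mem_normalizer_of_forall_conj_mem fun w hw =>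
      hmapW (MulAut.conj n) (fun x hx => m.omega_conj hS hn hx) w hw
  refine ⟨N₀ ⊔ W, ?_, le_normalizer.trans le_sup_left, fun a ha ha1 x hx => ?_⟩
  · by_cases hWb : W = ⊥
    · rw [hWb, sup_bot_eq]
      exact m.normalizer_sylow_ne_top hS
    · intro h
      have htop : normalizer (W : Set G) = ⊤ :=
        top_le_iff.1 (h ▸ sup_le hNW le_normalizer)
      exact hWb (m.eq_bot_of_odd (normalizer_eq_top_iff.1 htop) hWinv hodd)
  · obtain ⟨o, ho, n, hn, rfl⟩ := (m.centralizer_split hS ha ha1).2 x hx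
    exact mul_mem (mem_sup_right (hle a ha ha1 ho)) (mem_sup_left hn.2)

/-- Two non-conjugate central involutions commute with a third. -/
theorem exists_common {x y : G} (hx : ∃ a ∈ A₀, a ≠ 1 ∧ ∃ g : G, g * a * g⁻¹ = x)
    (hy : ∃ a ∈ A₀, a ≠ 1 ∧ ∃ g : G, g * a * g⁻¹ = y) (hxy : ∀ g : G, g * y * g⁻¹ ≠ x) :
    ∃ w, (∃ a ∈ A₀, a ≠ 1 ∧ ∃ g : G, g * a * g⁻¹ = w) ∧ Commute x w ∧ Commute y w := by
  haveI : Fact (Nat.Prime 2) := ⟨Nat.prime_two⟩
  have hsq : ∀ {z : G}, (∃ a ∈ A₀, a ≠ 1 ∧ ∃ g : G, g * a * g⁻¹ = z) → z * z = 1 := by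
    rintro z ⟨a, ha, -, g, rfl⟩
    rw [show g * a * g⁻¹ * (g * a * g⁻¹) = g * (a * a) * g⁻¹ by group, ha.2.2, mul_one,
      mul_inv_cancel]
  have hmemA : ∀ {z : G}, (∃ a ∈ A₀, a ≠ 1 ∧ ∃ g : G, g * a * g⁻¹ = z) →
      z ∈ (S : Subgroup G) → z ∈ A₀ := by
    rintro z ⟨a, ha, -, g, rfl⟩ hz
    obtain ⟨n, hn, hna⟩ := m.fusion hS (A := {a}) (by rintro t rfl; exact ha.1) (g := g)
      (by rintro t rfl; exact hz)
    rw [← hna a rfl]
    exact m.omega_conj hS hn ha
  have hconjK : ∀ {z : G}, (∃ a ∈ A₀, a ≠ 1 ∧ ∃ g : G, g * a * g⁻¹ = z) → ∀ k : G,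
      ∃ a ∈ A₀, a ≠ 1 ∧ ∃ g : G, g * a * g⁻¹ = k * z * k⁻¹ := by
    rintro z ⟨a, ha, ha1, g, rfl⟩ k
    exact ⟨a, ha, ha1, k * g, by group⟩
  set D := closure ({x, y} : Set G) with hD
  have hxD : x ∈ D := subset_closure (Or.inl rfl)
  have hyD : y ∈ D := subset_closure (Or.inr rfl)
  have hp : ∀ {z : G}, z * z = 1 → IsPGroup 2 (zpowers z) := fun {z} hz => by
    refine IsPGroup.of_card_dvd_pow (n := 1) ?_
    rw [pow_one, Nat.card_zpowers]
    exact orderOf_dvd_of_pow_eq_one (by rwa [pow_two])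
  obtain ⟨P, hxP, hP⟩ := ConjFunctor.exists_isSylowIn_ge (zpowers_le.2 hxD) (hp (hsq hx))
  obtain ⟨d, hd, hdy⟩ := hP.exists_cj_le (zpowers_le.2 hyD) (hp (hsq hy))
  have hy'P : d * y * d⁻¹ ∈ P := hdy (ConjFunctor.conj_mem_cj d (mem_zpowers y))
  have hxP' : x ∈ P := hxP (mem_zpowers x)
  obtain ⟨k, -, hk⟩ := (ConjFunctor.isSylowIn_top S).exists_cj_le (A := P) le_top hP.2.1
  have hx' := hmemA (hconjK hx k) (hk (ConjFunctor.conj_mem_cj k hxP'))
  have hy' := hmemA (hconjK (hconjK hy d) k) (hk (ConjFunctor.conj_mem_cj k hy'P))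
  have hw : x * (d * y * d⁻¹) ≠ 1 := fun h => hxy d (by
    rw [eq_comm, ← mul_inv_eq_one]
    have hy2 : (d * y * d⁻¹)⁻¹ = d * y * d⁻¹ := inv_eq_of_mul_eq_one_right (by
      rw [show d * y * d⁻¹ * (d * y * d⁻¹) = d * (y * y) * d⁻¹ by group, hsq hy, mul_one,
        mul_inv_cancel])
    rwa [hy2])
  refine ⟨x * (d * y * d⁻¹), ⟨_, mul_mem hx' hy', fun h => hw ?_, k⁻¹, by group⟩, ?_, ?_⟩
  · have := congrArg (fun t => k⁻¹ * t * k) h
    simpa [mul_assoc] using this
  · have e := mem_centralizer_iff.1 hy'.2.1 _ hx'.1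
    have hcomm : x * (d * y * d⁻¹) = d * y * d⁻¹ * x := by
      have := congrArg (fun t => k⁻¹ * t * k) e
      simpa [mul_assoc] using this
    show x * (x * (d * y * d⁻¹)) = x * (d * y * d⁻¹) * x
    rw [mul_assoc x, ← hcomm]
  · -- `y` inverts the involution `x yᵈ` of `⟨x y⟩`
    set C0 := zpowers (x * y)
    have hxi : x⁻¹ = x := inv_eq_of_mul_eq_one_right (hsq hx)
    have hyi : y⁻¹ = y := inv_eq_of_mul_eq_one_right (hsq hy)
    have hinvx : ∀ t ∈ C0, x * t * x⁻¹ = t⁻¹ := by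
      rintro _ ⟨i, rfl⟩
      rw [← conj_zpow, ← inv_zpow]
      congr 1
      rw [mul_inv_rev, hxi, hyi, ← mul_assoc, hsq hx, one_mul]
    have hinvy : ∀ t ∈ C0, y * t * y⁻¹ = t⁻¹ := by
      rintro _ ⟨i, rfl⟩
      rw [← conj_zpow, ← inv_zpow]
      congr 1
      rw [mul_inv_rev, hxi, hyi, mul_assoc y, mul_assoc x, hsq hy, mul_one]
    have hgood : ∀ e ∈ D, (∀ t ∈ C0, e * t * e⁻¹ ∈ C0) ∧ (∀ t ∈ C0, e⁻¹ * t * e ∈ C0) ∧
        e * y * e⁻¹ * y⁻¹ ∈ C0 := by
      intro e he
      induction he using closure_induction with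
      | mem z hz =>
        rcases hz with rfl | rfl
        · refine ⟨fun t ht => hinvx t ht ▸ inv_mem ht, fun t ht => ?_, ?_⟩
          · have := hinvx t ht
            rw [hxi] at this ⊢
            exact this ▸ inv_mem ht
          · rw [hxi, hyi, show z * y * z * y = (z * y) ^ 2 by rw [pow_two]; group]
            exact pow_mem (mem_zpowers _) 2
        · refine ⟨fun t ht => hinvy t ht ▸ inv_mem ht, fun t ht => ?_, ?_⟩
          · have := hinvy t ht
            rw [hyi] at this ⊢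
            exact this ▸ inv_mem ht
          · simp
      | one => simp
      | mul p q _ _ hp hq =>
        refine ⟨fun t ht => ?_, fun t ht => ?_, ?_⟩
        · rw [show p * q * t * (p * q)⁻¹ = p * (q * t * q⁻¹) * p⁻¹ by group]
          exact hp.1 _ (hq.1 t ht)
        · rw [show (p * q)⁻¹ * t * (p * q) = q⁻¹ * (p⁻¹ * t * p) * q by group]
          exact hq.2.1 _ (hp.2.1 t ht)
        · rw [show p * q * y * (p * q)⁻¹ * y⁻¹ =
            p * (q * y * q⁻¹ * y⁻¹) * p⁻¹ * (p * y * p⁻¹ * y⁻¹) by group]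
          exact mul_mem (hp.1 _ hq.2.2) hp.2.2
      | inv p _ hp =>
        refine ⟨fun t ht => ?_, fun t ht => ?_, ?_⟩
        · rw [inv_inv]; exact hp.2.1 t ht
        · rw [inv_inv]; exact hp.1 t ht
        · rw [show p⁻¹ * y * p⁻¹⁻¹ * y⁻¹ = p⁻¹ * (p * y * p⁻¹ * y⁻¹)⁻¹ * p by group]
          exact hp.2.1 _ (inv_mem hp.2.2)
    have hwC : x * (d * y * d⁻¹) ∈ C0 := by
      have h1 : x * (d * y * d⁻¹) = x * y * (y⁻¹ * (d * y * d⁻¹ * y⁻¹) * y) := by group
      rw [h1]
      exact mul_mem (mem_zpowers _) ((hgood y hyD).2.1 _ (hgood d hd).2.2)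
    have hw2 : (x * (d * y * d⁻¹))⁻¹ = x * (d * y * d⁻¹) := by
      refine inv_eq_of_mul_eq_one_right ?_
      have h := (mul_mem hx' hy').2.2
      have := congrArg (fun t => k⁻¹ * t * k) h
      simpa [mul_assoc] using this
    have := hinvy _ hwC
    rw [hw2] at this
    exact (mul_inv_eq_iff_eq_mul.1 this : Commute y _)

omit hS in
theorem absurd_min : False := by
  obtain ⟨S, hS⟩ := m.exists_invariant_sylow
  haveI : Fact (Nat.Prime 2) := ⟨Nat.prime_two⟩
  obtain ⟨M, hMne, hSM, hCM⟩ := m.exists_proper hS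
  set A := omegaCenter (S : Subgroup G) with hA
  let K : Set G := {x | ∃ a ∈ A, a ≠ 1 ∧ ∃ g : G, g * a * g⁻¹ = x}
  have hstep : ∀ x ∈ K, x ∈ M → ∀ z, Commute x z → z ∈ M := by
    intro x hx hxM z hxz
    have hp : IsPGroup 2 (zpowers x) := by
      obtain ⟨a, ha, -, g, rfl⟩ := hx
      refine IsPGroup.of_card_dvd_pow (n := 1) ?_
      rw [pow_one, Nat.card_zpowers]
      exact orderOf_dvd_of_pow_eq_one (by
        rw [pow_two, show g * a * g⁻¹ * (g * a * g⁻¹) = g * (a * a) * g⁻¹ by group, ha.2.2,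
          mul_one, mul_inv_cancel])
    obtain ⟨k, hkM, hk⟩ := ((ConjFunctor.isSylowIn_top S).of_le hSM le_top).exists_cj_le
      (zpowers_le.2 hxM) hp
    have hkS : k * x * k⁻¹ ∈ (S : Subgroup G) :=
      hk (ConjFunctor.conj_mem_cj k (mem_zpowers x))
    obtain ⟨a, ha, ha1, g, rfl⟩ := hx
    obtain ⟨n, hn, hna⟩ := m.fusion hS (A := {a}) (by rintro t rfl; exact ha.1) (g := k * g)
      (by
        rintro t rfl
        rwa [show k * g * t * (k * g)⁻¹ = k * (g * t * g⁻¹) * k⁻¹ by group])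
    have hb : k * (g * a * g⁻¹) * k⁻¹ ∈ A := by
      rw [show k * (g * a * g⁻¹) * k⁻¹ = k * g * a * (k * g)⁻¹ by group, ← hna a rfl]
      exact m.omega_conj hS hn ha
    have hb1 : k * (g * a * g⁻¹) * k⁻¹ ≠ 1 := fun h => ha1 (by simpa using h)
    have hz : k * z * k⁻¹ ∈ M := hCM _ hb hb1 (mem_centralizer_singleton_iff.2 (by
      calc k * z * k⁻¹ * (k * (g * a * g⁻¹) * k⁻¹) = k * (z * (g * a * g⁻¹)) * k⁻¹ := by group
        _ = k * ((g * a * g⁻¹) * z) * k⁻¹ := by rw [hxz.eq]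
        _ = k * (g * a * g⁻¹) * k⁻¹ * (k * z * k⁻¹) := by group))
    have := mul_mem (mul_mem (inv_mem hkM) hz) hkM
    rwa [show k⁻¹ * (k * z * k⁻¹) * k = z by group] at this
  obtain ⟨a, ha, ha1⟩ := m.exists_involution hS
  have hu := m.inv_omega hS a ha
  have hu1 : σ a ≠ 1 := fun h => ha1 (σ.injective (h.trans (map_one σ).symm))
  have hKM : K ⊆ M := by
    intro y hy
    obtain ⟨x, hxA, hx1, hxy⟩ : ∃ x ∈ A, x ≠ 1 ∧ ∀ g : G, g * y * g⁻¹ ≠ x := by
      by_cases h : ∀ g : G, g * y * g⁻¹ ≠ a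
      · exact ⟨a, ha, ha1, h⟩
      · push Not at h
        obtain ⟨g, rfl⟩ := h
        exact ⟨_, hu, hu1, fun g' hg' => m.not_conj_apply hS ha ha1 (g' * g⁻¹)
          (by rw [← hg']; group)⟩
    have hxK : x ∈ K := ⟨x, hxA, hx1, 1, by group⟩
    obtain ⟨w, hwK, hxw, hyw⟩ := m.exists_common hS hxK hy hxy
    exact hstep w hwK (hstep x hxK (hSM hxA.1) w hxw) y hyw.symm
  have hN : (closure K).Normal := by
    refine ⟨fun x hx g => ?_⟩
    induction hx using closure_induction with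
    | mem z hz =>
      obtain ⟨b, hb, hb1, k, rfl⟩ := hz
      exact subset_closure ⟨b, hb, hb1, g * k, by group⟩
    | one => simp
    | mul p q _ _ hp hq => rw [show g * (p * q) * g⁻¹ = (g * p * g⁻¹) * (g * q * g⁻¹) by group]; exact mul_mem hp hq
    | inv p _ hp => rw [show g * p⁻¹ * g⁻¹ = (g * p * g⁻¹)⁻¹ by group]; exact inv_mem hp
  have hI : Inv σ (closure K) := by
    refine CfsgLib.FixedTwist.inv_closure ?_
    rintro _ ⟨b, hb, hb1, k, rfl⟩
    refine subset_closure ⟨σ b, m.inv_omega hS b hb, fun h => hb1 (σ.injective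
      (h.trans (map_one σ).symm)), σ k, by rw [map_mul, map_mul, map_inv]⟩
  rcases m.simple _ hN hI with h | h
  · have : a ∈ closure K := subset_closure ⟨a, ha, ha1, 1, by group⟩
    rw [h, mem_bot] at this
    exact ha1 this
  · exact hMne (top_le_iff.1 (h ▸ (closure_le M).2 hKM))

end Min

/-- A finite `3'`-group with an automorphism `σ`, `σ³ = 1`, all of whose fixed points have odd
order is soluble. -/
theorem isSolvable_aux : ∀ (n : ℕ) (G : Type u) [Group G] [Finite G] (σ : MulAut G),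
    Nat.card G = n → Hyp G σ → Group.IsSolvable G := by
  intro n
  induction n using Nat.strong_induction_on with
  | _ n ih =>
  intro G _ _ σ hn h
  subst hn
  by_contra hns
  have hproper : ∀ L : Subgroup G, L ≠ ⊤ → Inv σ L → Group.IsSolvable L := fun L hL hi =>
    ih _ (lt_of_le_of_ne (Subgroup.card_le_card_group L) fun e => hL (Subgroup.eq_top_of_card_eq L e))
      L _ rfl (h.restrict hi)
  refine Min.absurd_min (σ := σ) ⟨h, hns, hproper, fun N hN hi => ?_⟩
  by_contra hcon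
  push Not at hcon
  haveI := hproper N hcon.2 hi
  haveI : Group.IsSolvable (G ⧸ N) := by
    refine ih _ ?_ _ _ rfl (h.quot hi)
    have h1 := Subgroup.card_eq_card_quotient_mul_card_subgroup N
    have h2 : 2 ≤ Nat.card N := (Subgroup.one_lt_card_iff_ne_bot N).2 hcon.1
    have h3 : 0 < Nat.card (G ⧸ N) := Nat.card_pos
    nlinarith
  exact hns (Group.isSolvable_of_ker_le_range N.subtype (QuotientGroup.mk' N) (by simp))

theorem Hyp.isSolvable (h : Hyp G σ) : Group.IsSolvable G := isSolvable_aux _ G σ rfl h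

/-- The structure: `G = O_{2',2}(G) C(σ)`, and `O_{2',2}(G)` has odd index. -/
theorem Hyp.structure_eq (h : Hyp G σ) :
    ¬ 2 ∣ (pPrimePCore 2 G).index ∧
      pPrimePCore 2 G ⊔ Subgroup.closure {g : G | σ g = g} = ⊤ := by
  haveI := h.isSolvable
  haveI : Fact (Nat.Prime 3) := ⟨Nat.prime_three⟩
  obtain ⟨h1, h2⟩ := solvable_case h
  refine ⟨h1, eq_top_iff.2 fun x _ => ?_⟩
  have hinv : Inv σ (pPrimePCore 2 G) := fun x hx => by
    have := mul_mem hx (h2 x)
    rwa [mul_inv_cancel_left] at this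
  obtain ⟨c, hc, hcN⟩ := exists_fixed_coset h.pow_eq h.not_dvd hinv (h2 x)
  haveI : (pPrimePCore 2 G).Normal :=
    (inferInstance : (pCore 2 (G ⧸ pPrimeCore 2 G)).Normal).comap _
  have e : x = c * (x⁻¹ * c)⁻¹ := by group
  rw [e]
  exact mul_mem (mem_sup_right (subset_closure hc)) (mem_sup_left (inv_mem hcN))

end CfsgLib.ThreeFpf
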